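import Mathlib
import Cfsg.Prelude
import Cfsg.Agent.Lib.PGroup.Basic

/-!
Bounding elementary abelian sections in groups of bounded sectional rank.
-/

set_option autoImplicit false

namespace CfsgLib.RankFour

open scoped commutatorElement

variable {S : Type*} [Group S] {p k : ℕ}

/-- An elementary abelian quotient of a group mapping to `S`, with kernel small enough, is a
section of `S`. -/
theorem card_le_of_hom (hr : Cfsg.SectionalPRankLE p k S) {X E : Type*} [Group X] [Group E]
    (i : X →* S) (f : X →* E) (hf : Function.Surjective f) (hker : i.ker ≤ f.ker)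
    (hc : ∀ a b : E, a * b = b * a) (he : ∀ a : E, a ^ p = 1) : Nat.card E ≤ p ^ k := by
  let g : i.range →* E :=
    i.rangeRestrict.liftOfSurjective i.rangeRestrict_surjective
      ⟨f, by rwa [MonoidHom.ker_rangeRestrict]⟩
  have hg : Function.Surjective g := fun e => by
    obtain ⟨x, rfl⟩ := hf e
    exact ⟨i.rangeRestrict x, MonoidHom.liftOfRightInverse_comp_apply _ _ _ ⟨f, _⟩ x⟩
  let e := QuotientGroup.quotientKerEquivOfSurjective g hg
  have h1 := hr i.range g.ker ⊤ ⟨⟨fun x y => Subtype.ext (e.injective (by
    rw [Subgroup.coe_mul, Subgroup.coe_mul, map_mul, map_mul, hc]))⟩⟩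
    fun x _ => e.injective (by rw [map_pow, map_one, he])
  rwa [Subgroup.card_top, Nat.card_congr e.toEquiv] at h1

/-- A section `X / N` of exponent two has order at most `2 ^ k`. -/
theorem relIndex_le_of_sq_mem (hr : Cfsg.SectionalPRankLE 2 k S) {X N : Subgroup S}
    (hn : ∀ x ∈ X, ∀ n ∈ N, x * n * x⁻¹ ∈ N) (hsq : ∀ x ∈ X, x * x ∈ N) :
    N.relIndex X ≤ 2 ^ k := by
  have : (N.subgroupOf X).Normal := ⟨fun n hN g => hn g g.2 n hN⟩
  have he : ∀ a : X ⧸ N.subgroupOf X, a ^ 2 = 1 := by
    intro a
    induction a using QuotientGroup.induction_on with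
    | H x =>
      rw [sq, ← QuotientGroup.mk_mul, QuotientGroup.eq_one_iff]
      exact hsq x x.2
  have hinv : ∀ a : X ⧸ N.subgroupOf X, a⁻¹ = a := fun a =>
    inv_eq_of_mul_eq_one_left (by rw [← sq, he])
  have hc : ∀ a b : X ⧸ N.subgroupOf X, a * b = b * a := fun a b => by
    rw [← hinv (a * b), mul_inv_rev, hinv a, hinv b]
  exact card_le_of_hom hr X.subtype (QuotientGroup.mk' (N.subgroupOf X))
    (QuotientGroup.mk'_surjective _)
    (fun x hx => by
      rw [MonoidHom.mem_ker] at hx ⊢
      rw [show x = 1 from Subtype.ext hx, map_one]) hc he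

/-- The elementary abelian quotient of a non-abelian finite 2-group. -/
theorem exists_four_quotient {P : Type*} [Group P] [Finite P] (hP : IsPGroup 2 P)
    (hne : ¬ IsMulCommutative P) :
    ∃ N : Subgroup P, ∃ _ : N.Normal, 4 ≤ Nat.card (P ⧸ N) ∧ (∀ a b : P ⧸ N, a * b = b * a) ∧
      (∀ a : P ⧸ N, a ^ 2 = 1) ∧ commutator P ≤ N := by
  have : Fact (Nat.Prime 2) := ⟨Nat.prime_two⟩
  have hcl : commutator P ≤ frattini P := PGroup.commutator_le_frattini hP
  refine ⟨frattini P, inferInstance, ?_, ?_, ?_, hcl⟩
  · by_contra hlt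
    push Not at hlt
    rw [← Subgroup.index_eq_card] at hlt
    have h0 : (frattini P).index ≠ 0 := Subgroup.index_ne_zero_of_finite
    apply hne
    obtain ⟨m, hm⟩ := (hP.index (frattini P))
    have hm1 : m ≤ 1 := by
      by_contra hm2
      push Not at hm2
      have : 2 ^ 2 ≤ 2 ^ m := Nat.pow_le_pow_right (by norm_num) hm2
      rw [← hm] at this
      omega
    interval_cases m
    · have htop : frattini P = ⊤ := Subgroup.index_eq_one.1 (by simpa using hm)
      rcases subsingleton_or_nontrivial P with h | h
      · exact ⟨⟨fun a b => Subsingleton.elim _ _⟩⟩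
      · exact absurd htop PGroup.frattini_ne_top
    · obtain ⟨x, hx⟩ := Subgroup.index_eq_two_iff.1 (by simpa using hm)
      have htop : Subgroup.zpowers x ⊔ frattini P = ⊤ := by
        rw [eq_top_iff]
        intro b _
        rcases hx b with ⟨hb, -⟩ | ⟨hb, -⟩
        · have : b * x * x⁻¹ ∈ Subgroup.zpowers x ⊔ frattini P :=
            mul_mem (Subgroup.mem_sup_right hb)
              (inv_mem (Subgroup.mem_sup_left (Subgroup.mem_zpowers x)))
          simpa using this
        · exact Subgroup.mem_sup_right hb
      have := frattini_nongenerating htop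
      refine ⟨⟨fun a b => ?_⟩⟩
      obtain ⟨i, rfl⟩ : a ∈ Subgroup.zpowers x := this ▸ Subgroup.mem_top a
      obtain ⟨j, rfl⟩ : b ∈ Subgroup.zpowers x := this ▸ Subgroup.mem_top b
      rw [← zpow_add, ← zpow_add, add_comm]
  · intro a b
    induction a using QuotientGroup.induction_on with
    | H a =>
      induction b using QuotientGroup.induction_on with
      | H b =>
        rw [← QuotientGroup.mk_mul, ← QuotientGroup.mk_mul, QuotientGroup.eq]
        apply hcl
        have : (a * b)⁻¹ * (b * a) = ⁅b⁻¹, a⁻¹⁆ := by rw [commutatorElement_def]; group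
        rw [this, commutator_def]
        exact Subgroup.commutator_mem_commutator (Subgroup.mem_top _) (Subgroup.mem_top _)
  · intro a
    induction a using QuotientGroup.induction_on with
    | H a =>
      rw [← QuotientGroup.mk_pow, QuotientGroup.eq_one_iff]
      exact PGroup.pow_mem_frattini hP a

end CfsgLib.RankFour
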