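import Cfsg.Agent.Lib.AltEight.SixOnSixteen
import Mathlib.GroupTheory.SpecificGroups.Alternating.Simple

/-!
Faithful actions of the alternating group of degree five on an elementary abelian group of order at most 16.
-/

set_option autoImplicit false
set_option linter.style.haveILetI false
set_option linter.unusedSectionVars false

namespace CfsgLib.RankFour.AltFiveModule

open Equiv CfsgLib.AltEight.Sixteen

/-- The alternating group of degree five. -/
abbrev A5 : Type := ↥(alternatingGroup (Fin 5))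

/-- `(0 1)(2 3)`. -/
def e1 : A5 := ⟨swap 0 1 * swap 2 3, Equiv.Perm.mem_alternatingGroup.mpr (by decide)⟩

/-- `(0 2)(1 4)`. -/
def e2 : A5 := ⟨swap 0 2 * swap 1 4, Equiv.Perm.mem_alternatingGroup.mpr (by decide)⟩

/-- An element of order three normalising a four-group through `(0 1)(2 3)` and one through `(0 2)(1 4)`. -/
def e3 : A5 := ⟨swap 0 1 * swap 1 2, Equiv.Perm.mem_alternatingGroup.mpr (by decide)⟩

theorem e1_sq : e1 * e1 = 1 := by decide
theorem e2_sq : e2 * e2 = 1 := by decide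
theorem e3_cube : e3 ^ 3 = 1 := by decide +kernel
theorem e1_ne : e1 ≠ 1 := by decide
theorem e2_ne : e2 ≠ 1 := by decide
theorem e3_ne : e3 ≠ 1 := by decide
theorem e12_five : (e1 * e2) ^ 5 = 1 := by decide +kernel
theorem e12_ne : e1 * e2 ≠ 1 := by decide
theorem e1_conj_e2 : ∃ g : A5, g * e1 * g⁻¹ = e2 := by decide +kernel
theorem e1_comm : e1 * (e3 * e1 * e3⁻¹) = e3 * e1 * e3⁻¹ * e1 := by decide
theorem e2_comm : e2 * (e3 * e2 * e3⁻¹) = e3 * e2 * e3⁻¹ * e2 := by decide

variable {M : Type*} [CommGroup M] [Finite M] (h2 : ∀ v : M, v * v = 1) (hle : Nat.card M ≤ 16)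
  (β : A5 →* MulAut M) (hβ : β ≠ 1)

include hβ in
theorem injective_of_ne_one : Function.Injective β := by
  haveI : IsSimpleGroup A5 := alternatingGroup.isSimpleGroup (by simp)
  rcases β.normal_ker.eq_bot_or_eq_top with h | h
  · exact (MonoidHom.ker_eq_bot_iff β).mp h
  · exact absurd (MonoidHom.ker_eq_top_iff.mp h) hβ

include hβ in
theorem map_ne {g : A5} (hg : g ≠ 1) : β g ≠ 1 := fun h =>
  hg (injective_of_ne_one β hβ (h.trans (map_one β).symm))

include h2 hle hβ in
theorem card_eq : Nat.card M = 16 := by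
  haveI : Fact (Nat.Prime 2) := ⟨Nat.prime_two⟩
  haveI : Fact (Nat.Prime 5) := ⟨by norm_num⟩
  have hM : IsPGroup 2 M := fun v => ⟨1, by rw [pow_one, sq]; exact h2 v⟩
  by_contra h16
  set φ := β (e1 * e2) with hφdef
  have h5 : φ ^ 5 = 1 := by rw [hφdef, ← map_pow, e12_five, map_one]
  have hp : IsPGroup 5 (Subgroup.zpowers φ) :=
    IsPGroup.of_card (n := 1)
      (by rw [Nat.card_zpowers, pow_one]; exact orderOf_eq_prime h5 (map_ne β hβ e12_ne))
  have hmod := hp.card_modEq_card_fixedPoints M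
  have he : MulAction.fixedPoints (Subgroup.zpowers φ) M = (fx φ : Set M) := by
    ext v
    rw [MulAction.mem_fixedPoints]
    constructor
    · intro hv; exact hv ⟨φ, Subgroup.mem_zpowers φ⟩
    · rintro hv ⟨g, i, rfl⟩
      exact Subgroup.zpow_mem (MulAction.stabilizer (MulAut M) v) hv i
  rw [he] at hmod
  refine map_ne β hβ e12_ne (MulEquiv.ext fun v => mem_fx.mp ?_)
  obtain ⟨k, hk⟩ := IsPGroup.iff_card.mp hM
  obtain ⟨l, hl⟩ := IsPGroup.iff_card.mp (hM.to_subgroup (fx φ))
  have hlk : 2 ^ l ∣ 2 ^ k := by rw [← hl, ← hk]; exact (fx φ).card_subgroup_dvd_card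
  have hlk' : l ≤ k := (Nat.pow_dvd_pow_iff_le_right (by norm_num)).mp hlk
  have hk3 : k ≤ 3 := by
    by_contra hk4
    have := Nat.pow_le_pow_right (show 0 < 2 by norm_num) (show 4 ≤ k by omega)
    omega
  have hmod' : 2 ^ k % 5 = 2 ^ l % 5 := by
    have hc : Nat.card (fx φ : Set M) = 2 ^ l := hl
    rw [← hk, ← hc]; exact hmod
  have hkl : k = l := by interval_cases k <;> interval_cases l <;> first | rfl | (norm_num at hmod')
  rw [(fx φ).eq_top_of_card_eq (by rw [hl, hk, hkl])]
  exact Subgroup.mem_top v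

include h2 hle hβ in
theorem fx_order_five {g : A5} (h5 : g ^ 5 = 1) (hg : g ≠ 1) : fx (β g) = ⊥ :=
  fx_five (card_eq h2 hle β hβ) (by rw [← map_pow, h5, map_one]) (map_ne β hβ hg)

include h2 hle hβ in
/-- An involution fixes exactly four points and they are the commutators with it. -/
theorem involution :
    Nat.card (fx (β e1)) = 4 ∧ Nat.card (fx (β e2)) = 4 ∧ (δ (β e1)).range = fx (β e1) := by
  have h16 := card_eq h2 hle β hβ
  have hs : ∀ {e : A5}, e * e = 1 → β e * β e = 1 := fun {e} h => by rw [← map_mul, h, map_one]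
  obtain ⟨g, hg⟩ := e1_conj_e2
  have hcard : Nat.card (fx (β e2)) = Nat.card (fx (β e1)) := by
    rw [← hg, map_mul, map_mul, map_inv]; exact card_fx_conj _ _
  have h4 : Nat.card (fx (β e1)) = 4 := by
    have hlow : 4 ≤ Nat.card (fx (β e1)) := four_le_fx h2 h16 (hs e1_sq)
    rcases card_fx_cases h16 (β e1) with e | e | e | e | e
    · omega
    · omega
    · exact e
    · exfalso
      have hbot := fx_order_five h2 hle β hβ e12_five e12_ne
      have hle' : fx (β e1) ⊓ fx (β e2) ≤ fx (β (e1 * e2)) := by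
        rintro v ⟨ha, hb⟩
        show β (e1 * e2) v = v
        rw [map_mul, MulAut.mul_apply, mem_fx.mp hb, mem_fx.mp ha]
      rw [hbot, le_bot_iff] at hle'
      have h := Subgroup.card_mul_index (fx (β e1))
      rw [e, h16] at h
      have hrel : (fx (β e1)).index = 2 := by omega
      have h3 : (fx (β e1)).relIndex (fx (β e2)) ≤ (fx (β e1)).index :=
        Nat.le_of_dvd (by omega) (Subgroup.relIndex_dvd_index_of_normal _ _)
      have h5' : (fx (β e1) ⊓ fx (β e2)).relIndex (fx (β e2)) = (fx (β e1)).relIndex (fx (β e2)) :=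
        Subgroup.inf_relIndex_right _ _
      rw [hle', Subgroup.relIndex_bot_left] at h5'
      omega
    · exact absurd (eq_one_of_card_fx h16 e) (map_ne β hβ e1_ne)
  refine ⟨h4, hcard.trans h4, Subgroup.eq_of_le_of_card_ge (range_le_fx h2 (hs e1_sq)) ?_⟩
  have h := card_fx_mul_range h2 h16 (β e1)
  rw [h4] at h ⊢
  omega

/-- A set carried into itself by the action. -/
def Inv (β : A5 →* MulAut M) (O : Set M) : Prop := ∀ g : A5, ∀ v ∈ O, β g v ∈ O

theorem exists_fixed_in {e : A5} (he : e * e = 1) {O : Set M} (hO : Inv β O) (hodd : Odd O.ncard) :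
    ∃ v ∈ O, β e v = v := by
  classical
  by_contra hno
  push Not at hno
  haveI := Fintype.ofFinite O
  let σ : Equiv.Perm O :=
    ⟨fun v => ⟨β e v, hO e v v.2⟩, fun v => ⟨β e v, hO e v v.2⟩,
      fun v => Subtype.ext (by show β e (β e v) = v; rw [← MulAut.mul_apply, ← map_mul, he, map_one]; rfl),
      fun v => Subtype.ext (by show β e (β e v) = v; rw [← MulAut.mul_apply, ← map_mul, he, map_one]; rfl)⟩
  haveI : Fact (Nat.Prime 2) := ⟨Nat.prime_two⟩
  have hσ : σ ^ 2 ^ 1 = 1 := by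
    refine Equiv.ext fun v => Subtype.ext ?_
    show β e (β e v) = v
    rw [← MulAut.mul_apply, ← map_mul, he, map_one]; rfl
  have hnfix : ∀ v : O, σ v ≠ v := fun v h => hno v v.2 (congrArg Subtype.val h)
  have hsupp : σ.support = Finset.univ := Finset.eq_univ_of_forall fun v => Equiv.Perm.mem_support.mpr (hnfix v)
  have h1 : 2 ∣ Fintype.card O := by
    by_contra h
    obtain ⟨v, hv⟩ := Equiv.Perm.exists_fixed_point_of_prime h hσ
    exact hnfix v hv
  rw [← Nat.card_eq_fintype_card, Nat.card_coe_set_eq] at h1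
  exact Nat.not_even_iff_odd.mpr hodd (even_iff_two_dvd.mpr h1)

include h2 hle hβ in
/-- There is at most one invariant set of five non-identity elements. -/
theorem five_set_unique {O₁ O₂ : Set M} (i1 : Inv β O₁) (i2 : Inv β O₂) (c1 : O₁.ncard = 5)
    (c2 : O₂.ncard = 5) (n1 : (1 : M) ∉ O₁) (n2 : (1 : M) ∉ O₂) : O₁ = O₂ := by
  have h16 := card_eq h2 hle β hβ
  by_contra hne
  have hfive := fx_order_five h2 hle β hβ e12_five e12_ne
  -- the two sets are disjoint
  have hdisj : Disjoint O₁ O₂ := by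
    rw [Set.disjoint_left]
    intro v hv1 hv2
    haveI : Fact (Nat.Prime 5) := ⟨by norm_num⟩
    set φ := β (e1 * e2) with hφdef
    have hv : v ∈ O₁ ∩ O₂ := ⟨hv1, hv2⟩
    have horb : MulAction.orbit (Subgroup.zpowers φ) v ⊆ O₁ ∩ O₂ := by
      rintro _ ⟨⟨g, i, rfl⟩, rfl⟩
      obtain ⟨k, hk⟩ : ∃ k : A5, β k = φ ^ i := ⟨(e1 * e2) ^ i, map_zpow β _ i⟩
      show (φ ^ i) v ∈ O₁ ∩ O₂
      rw [← hk]
      exact ⟨i1 k v hv1, i2 k v hv2⟩
    have hp : IsPGroup 5 (Subgroup.zpowers φ) :=
      IsPGroup.of_card (n := 1) (by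
        rw [Nat.card_zpowers, pow_one]
        exact orderOf_eq_prime (by rw [hφdef, ← map_pow, e12_five, map_one]) (map_ne β hβ e12_ne))
    obtain ⟨n, hn⟩ := hp.card_orbit v
    have hn0 : n ≠ 0 := by
      rintro rfl
      rw [pow_zero, Nat.card_eq_one_iff_unique] at hn
      have hfix : φ v = v := congrArg Subtype.val
        (@Subsingleton.elim _ hn.1 ⟨φ v, ⟨⟨φ, Subgroup.mem_zpowers φ⟩, rfl⟩⟩
          ⟨v, MulAction.mem_orbit_self v⟩)
      have : v ∈ fx φ := mem_fx.mpr hfix
      rw [hfive, Subgroup.mem_bot] at this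
      exact n1 (this ▸ hv1)
    have h5 : 5 ≤ (O₁ ∩ O₂).ncard := by
      have := Set.ncard_le_ncard horb (Set.toFinite _)
      rw [← Nat.card_coe_set_eq, hn] at this
      exact le_trans (le_trans (by norm_num) (Nat.pow_le_pow_right (show 0 < 5 by norm_num)
        (Nat.pos_of_ne_zero hn0))) this
    have e1' := Set.eq_of_subset_of_ncard_le (Set.inter_subset_left : O₁ ∩ O₂ ⊆ O₁) (by omega) (Set.toFinite _)
    have e2' := Set.eq_of_subset_of_ncard_le (Set.inter_subset_right : O₁ ∩ O₂ ⊆ O₂) (by omega) (Set.toFinite _)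
    exact hne (e1'.symm.trans e2')
  -- the third set
  let O₃ : Set M := ({1} ∪ O₁ ∪ O₂)ᶜ
  have c3 : O₃.ncard = 5 := by
    have h := Set.ncard_add_ncard_compl ({1} ∪ O₁ ∪ O₂)
    have hu : ({1} ∪ O₁ ∪ O₂ : Set M).ncard = 11 := by
      rw [Set.ncard_union_eq (Set.disjoint_union_left.mpr ⟨Set.disjoint_singleton_left.mpr n2, hdisj⟩),
        Set.ncard_union_eq (Set.disjoint_singleton_left.mpr n1), Set.ncard_singleton, c1, c2]
    rw [hu, h16] at h
    show (({1} ∪ O₁ ∪ O₂ : Set M)ᶜ).ncard = 5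
    omega
  have i3 : Inv β O₃ := by
    intro g v hv hmem
    apply hv
    have hback : β g⁻¹ (β g v) = v := by rw [← MulAut.mul_apply, ← map_mul, inv_mul_cancel, map_one]; rfl
    rcases hmem with (h | h) | h
    · left; left
      rw [Set.mem_singleton_iff] at h ⊢
      rw [h, map_one] at hback
      exact hback.symm
    · left; right; rw [← hback]; exact i1 g⁻¹ _ h
    · right; rw [← hback]; exact i2 g⁻¹ _ h
  have n3 : (1 : M) ∉ O₃ := fun h => h (Or.inl (Or.inl rfl))
  -- fixed points of an involution: one in each set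
  have key : ∀ e : A5, e * e = 1 → Nat.card (fx (β e)) = 4 →
      e * (e3 * e * e3⁻¹) = e3 * e * e3⁻¹ * e → fx (β e) = fx (β e3) := by
    intro e he hc hcomm
    obtain ⟨v1, h11, f1⟩ := exists_fixed_in β he i1 (by rw [c1]; decide)
    obtain ⟨v2, h22, f2⟩ := exists_fixed_in β he i2 (by rw [c2]; decide)
    obtain ⟨v3, h33, f3⟩ := exists_fixed_in β he i3 (by rw [c3]; decide)
    have h12 : v1 ≠ v2 := fun h => Set.disjoint_left.mp hdisj h11 (h ▸ h22)
    have h13 : v1 ≠ v3 := fun h => h33 (h ▸ Or.inl (Or.inr h11))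
    have h23 : v2 ≠ v3 := fun h => h33 (h ▸ Or.inr h22)
    have m1 : v1 ≠ 1 := fun h => n1 (h ▸ h11)
    have m2 : v2 ≠ 1 := fun h => n2 (h ▸ h22)
    have m3 : v3 ≠ 1 := fun h => n3 (h ▸ h33)
    have hall : (fx (β e) : Set M) = {1, v1, v2, v3} := by
      refine (Set.eq_of_subset_of_ncard_le ?_ ?_ (Set.toFinite _)).symm
      · rintro v (rfl | rfl | rfl | rfl)
        · exact one_mem _
        · exact f1
        · exact f2
        · exact f3
      · rw [← Nat.card_coe_set_eq]
        show Nat.card (fx (β e)) ≤ _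
        rw [hc, Set.ncard_insert_of_notMem (by simp [Ne.symm m1, Ne.symm m2, Ne.symm m3]) (Set.toFinite _),
          Set.ncard_insert_of_notMem (by simp [h12, h13]) (Set.toFinite _), Set.ncard_pair h23]
    -- points of a set fixed by `e` are unique
    have huniq : ∀ {O : Set M} {v w : M}, (O = O₁ ∧ v = v1 ∨ O = O₂ ∧ v = v2 ∨ O = O₃ ∧ v = v3) →
        w ∈ O → w ∈ fx (β e) → w = v := by
      intro O v w hO hwO hwf
      have hw : w ∈ ({1, v1, v2, v3} : Set M) := hall ▸ hwf
      rcases hO with ⟨rfl, rfl⟩ | ⟨rfl, rfl⟩ | ⟨rfl, rfl⟩ <;> rcases hw with rfl | rfl | rfl | rfl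
      · exact absurd hwO n1
      · rfl
      · exact absurd hwO fun h => Set.disjoint_left.mp hdisj h h22
      · exact absurd (Or.inl (Or.inr hwO)) h33
      · exact absurd hwO n2
      · exact absurd hwO fun h => Set.disjoint_left.mp hdisj h11 h
      · rfl
      · exact absurd (Or.inr hwO) h33
      · exact absurd hwO n3
      · exact absurd (Or.inl (Or.inr h11)) hwO
      · exact absurd (Or.inr h22) hwO
      · rfl
    -- the conjugate involution fixes the same points
    set b := e3 * e * e3⁻¹ with hb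
    have hbfix : ∀ {v : M}, v ∈ fx (β e) → β b v ∈ fx (β e) := by
      intro v hv
      show β e (β b v) = β b v
      rw [← MulAut.mul_apply, ← map_mul, hcomm, map_mul, MulAut.mul_apply, mem_fx.mp hv]
    have hsub : fx (β e) ≤ fx (β b) := by
      intro v hv
      have hv' : v ∈ ({1, v1, v2, v3} : Set M) := hall ▸ hv
      rcases hv' with rfl | rfl | rfl | rfl
      · exact one_mem _
      · exact huniq (Or.inl ⟨rfl, rfl⟩) (i1 b _ h11) (hbfix hv)
      · exact huniq (Or.inr (Or.inl ⟨rfl, rfl⟩)) (i2 b _ h22) (hbfix hv)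
      · exact huniq (Or.inr (Or.inr ⟨rfl, rfl⟩)) (i3 b _ h33) (hbfix hv)
    have hcb : Nat.card (fx (β b)) = 4 := by
      rw [hb, map_mul, map_mul, map_inv, card_fx_conj, hc]
    have heq : fx (β b) = fx (β e) :=
      (Subgroup.eq_of_le_of_card_ge hsub (by rw [hcb, hc])).symm
    have hy : ∀ {v : M}, v ∈ fx (β e) → β e3 v ∈ fx (β e) := by
      intro v hv
      rw [← heq]
      show β b (β e3 v) = β e3 v
      rw [← MulAut.mul_apply, ← map_mul, hb, inv_mul_cancel_right, map_mul, MulAut.mul_apply, mem_fx.mp hv]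
    have hle3 : fx (β e) ≤ fx (β e3) := by
      intro v hv
      have hv' : v ∈ ({1, v1, v2, v3} : Set M) := hall ▸ hv
      rcases hv' with rfl | rfl | rfl | rfl
      · exact one_mem _
      · exact huniq (Or.inl ⟨rfl, rfl⟩) (i1 e3 _ h11) (hy hv)
      · exact huniq (Or.inr (Or.inl ⟨rfl, rfl⟩)) (i2 e3 _ h22) (hy hv)
      · exact huniq (Or.inr (Or.inr ⟨rfl, rfl⟩)) (i3 e3 _ h33) (hy hv)
    refine Subgroup.eq_of_le_of_card_ge hle3 ?_
    rcases fx_three h16 (φ := β e3) (by rw [← map_pow, e3_cube, map_one]) (map_ne β hβ e3_ne) with h | h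
    · rw [h, Subgroup.card_bot]; omega
    · omega
  obtain ⟨k1, k2, -⟩ := involution h2 hle β hβ
  have he : fx (β e1) = fx (β e2) := (key e1 e1_sq k1 e1_comm).trans (key e2 e2_sq k2 e2_comm).symm
  have hle12 : fx (β e1) ≤ fx (β (e1 * e2)) := fun v hv => by
    have hv2 : v ∈ fx (β e2) := he ▸ hv
    show β (e1 * e2) v = v
    rw [map_mul, MulAut.mul_apply, mem_fx.mp hv2, mem_fx.mp hv]
  rw [hfive, le_bot_iff] at hle12
  rw [hle12, Subgroup.card_bot] at k1
  omega

end CfsgLib.RankFour.AltFiveModule
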