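import Cfsg.Agent.Lib.RankFour.AltFiveSection
import Cfsg.Agent.Lib.AltEight.SixTop
import Cfsg.Agent.Lib.Extraspecial.OuterIso
import Cfsg.Agent.Lib.LargeXS.OfCommutators
import Cfsg.Agent.Lib.PGroup.Basic

/-!
A normal 2-subgroup, in a group of sectional 2-rank at most four, with quotient the alternating group of
degree five acting non-trivially: it is elementary of order 16 or extraspecial of order 32.
-/

set_option autoImplicit false
set_option linter.style.haveILetI false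
set_option linter.unusedSectionVars false

namespace CfsgLib.RankFour.AltFiveRadical

open CfsgLib.RankFour.AltFiveModule CfsgLib.RankFour.AltFiveSection

open scoped Pointwise commutatorElement

universe u

variable {X : Type u} [Group X] [Finite X] {π : X →* A5}

/-- The standing hypotheses. -/
structure Setup (π : X →* A5) (F : Subgroup X) : Prop where
  surj : Function.Surjective π
  two : IsPGroup 2 ↥π.ker
  rank : Cfsg.SectionalPRankLE 2 4 X
  normal : F.Normal
  le : F ≤ π.ker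
  sq : ∀ p ∈ π.ker, p * p ∈ F
  nontriv : ∃ x : X, ∃ p ∈ π.ker, x * p * x⁻¹ * p⁻¹ ∉ F

theorem Setup.comm_mem {F : Subgroup X} (h : Setup π F) {a b : X} (ha : a ∈ π.ker) (hb : b ∈ π.ker) :
    a * b * a⁻¹ * b⁻¹ ∈ F := by
  rw [show a * b * a⁻¹ * b⁻¹ = (a * b * (a * b)) * ((b⁻¹ * (a⁻¹ * a⁻¹) * b) * (b⁻¹ * b⁻¹)) by group]
  refine mul_mem (h.sq _ (mul_mem ha hb)) (mul_mem ?_ (h.sq _ (inv_mem hb)))
  simpa using h.normal.conj_mem _ (h.sq _ (inv_mem ha)) b⁻¹

theorem Setup.sec {F : Subgroup X} (h : Setup π F) : Sec π F π.ker :=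
  ⟨h.le, h.normal, inferInstance, h.sq, fun _ hp _ hb => h.comm_mem hp hb, h.nontriv⟩

theorem Setup.relIndex_eq {F : Subgroup X} (h : Setup π F) : F.relIndex π.ker = 16 :=
  (h.sec.main h.surj h.rank).1

theorem Setup.card_ker {F : Subgroup X} (h : Setup π F) : Nat.card π.ker = 16 * Nat.card F := by
  have h1 := Subgroup.relIndex_mul_relIndex ⊥ F π.ker bot_le h.le
  rw [Subgroup.relIndex_bot_left, Subgroup.relIndex_bot_left, h.relIndex_eq] at h1
  omega

theorem Setup.quotient {F : Subgroup X} (h : Setup π F) (N : Subgroup X) [hN : N.Normal] (hNF : N ≤ F) :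
    ∃ π' : X ⧸ N →* A5, (∀ x : X, π' (x : X ⧸ N) = π x) ∧ π'.ker = π.ker.map (QuotientGroup.mk' N) ∧
      Setup π' (F.map (QuotientGroup.mk' N)) := by
  have hNP : N ≤ π.ker := hNF.trans h.le
  have hker : (QuotientGroup.lift N π hNP).ker = π.ker.map (QuotientGroup.mk' N) := by
    ext v
    induction v using QuotientGroup.induction_on with
    | H x =>
      constructor
      · intro hx; exact ⟨x, hx, rfl⟩
      · rintro ⟨y, hy, e⟩; rw [← e]; exact hy
  refine ⟨QuotientGroup.lift N π hNP, fun _ => rfl, hker, ⟨?_, ?_, ?_, ?_, ?_, ?_, ?_⟩⟩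
  · intro g
    obtain ⟨x, rfl⟩ := h.surj g
    exact ⟨x, rfl⟩
  · rw [hker]; exact h.two.map _
  · exact CfsgLib.AltEight.Sixteen.sectional_of_section h.rank (MonoidHom.id X) Function.injective_id
      (QuotientGroup.mk' N) (QuotientGroup.mk'_surjective N)
  · exact h.normal.map _ (QuotientGroup.mk'_surjective N)
  · rw [hker]; exact Subgroup.map_mono h.le
  · rw [hker]
    rintro _ ⟨p, hp, rfl⟩
    exact ⟨p * p, h.sq p hp, map_mul _ _ _⟩
  · obtain ⟨x, p, hp, hxp⟩ := h.nontriv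
    refine ⟨(x : X ⧸ N), (p : X ⧸ N), hp, fun hmem => hxp ?_⟩
    obtain ⟨f, hf, e⟩ := hmem
    have e' : (f : X ⧸ N) = ((x * p * x⁻¹ * p⁻¹ : X) : X ⧸ N) := e
    rw [QuotientGroup.eq] at e'
    simpa using mul_mem hf (hNF e')

/-- An element of order five outside the kernel. -/
theorem Setup.exists_order_five {F : Subgroup X} (h : Setup π F) :
    ∃ x : X, x ^ 5 = 1 ∧ π x ^ 5 = 1 ∧ π x ≠ 1 := by
  obtain ⟨y, hy⟩ := h.surj (e1 * e2)
  haveI : Fact (Nat.Prime 5) := ⟨by norm_num⟩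
  have h5 : y ^ 5 ∈ π.ker := by rw [MonoidHom.mem_ker, map_pow, hy, e12_five]
  obtain ⟨k, hk⟩ := h.two ⟨y ^ 5, h5⟩
  have hk' : (y ^ 5) ^ 2 ^ k = 1 := congrArg Subtype.val hk
  refine ⟨y ^ 2 ^ k, by rw [← pow_mul, mul_comm, pow_mul, hk'], ?_, ?_⟩
  · rw [map_pow, hy, ← pow_mul, mul_comm, pow_mul, e12_five, one_pow]
  · rw [map_pow, hy, Ne, ← orderOf_dvd_iff_pow_eq_one, orderOf_eq_prime e12_five e12_ne]
    intro hd
    exact absurd (Nat.Prime.dvd_of_dvd_pow (by norm_num) hd) (by norm_num)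

/-- Two layers of order sixteen are impossible. -/
theorem Setup.no_double {F : Subgroup X} (h : Setup π F) (hexp : ∀ f ∈ F, f * f = 1)
    (hcen : ∀ p ∈ π.ker, ∀ f ∈ F, p * f = f * p) (hnt : ∃ x : X, ∃ f ∈ F, x * f ≠ f * x) : False := by
  obtain ⟨x₀, f₀, hf₀, hne⟩ := hnt
  have hY : Sec π ⊥ F :=
    ⟨bot_le, inferInstance, h.normal, fun f hf => Subgroup.mem_bot.mpr (hexp f hf),
      fun p hp f hf => Subgroup.mem_bot.mpr (by rw [hcen p hp f hf]; group),
      ⟨x₀, f₀, hf₀, fun hh => hne (mul_inv_eq_iff_eq_mul.mp (mul_inv_eq_one.mp (Subgroup.mem_bot.mp hh)))⟩⟩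
  obtain ⟨-, -, hW, -⟩ := hY.main h.surj h.rank
  obtain ⟨-, -, hV, -⟩ := h.sec.main h.surj h.rank
  obtain ⟨s, hs⟩ := h.surj e1
  have hs2 : s * s ∈ π.ker := by rw [MonoidHom.mem_ker, map_mul, hs, e1_sq]
  haveI := h.normal
  -- the fixed points upstairs and downstairs
  have hconjP : ∀ {p : X}, p ∈ π.ker → s * p * s⁻¹ ∈ π.ker := fun hp => π.normal_ker.conj_mem _ hp s
  let C : Subgroup X :=
    { carrier := {c | c ∈ π.ker ∧ s * c * s⁻¹ * c⁻¹ ∈ F}
      one_mem' := ⟨one_mem _, by simp⟩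
      mul_mem' := fun {a b} ha hb => ⟨mul_mem ha.1 hb.1, by
        rw [show s * (a * b) * s⁻¹ * (a * b)⁻¹ = (s * a * s⁻¹ * a⁻¹) * (a * (s * b * s⁻¹ * b⁻¹) * a⁻¹) by group]
        exact mul_mem ha.2 (h.normal.conj_mem _ hb.2 a)⟩
      inv_mem' := fun {a} ha => ⟨inv_mem ha.1, by
        rw [show s * a⁻¹ * s⁻¹ * a⁻¹⁻¹ = a⁻¹ * (s * a * s⁻¹ * a⁻¹)⁻¹ * a⁻¹⁻¹ by group]
        exact h.normal.conj_mem _ (inv_mem ha.2) a⁻¹⟩ }
  have hC : ∀ c, c ∈ C ↔ c ∈ π.ker ∧ s * c * s⁻¹ * c⁻¹ ∈ F := fun _ => Iff.rfl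
  let C0 : Subgroup X := F ⊓ Subgroup.centralizer {s}
  have hC0 : ∀ c, c ∈ C0 ↔ c ∈ F ∧ s * c = c * s := fun c => by
    rw [Subgroup.mem_inf, Subgroup.mem_centralizer_singleton_iff]
    exact and_congr Iff.rfl eq_comm
  obtain ⟨hVc, hVr⟩ := hV s hs C hC
  obtain ⟨hWc, -⟩ := hW s hs C0 fun c => by
    rw [hC0, Subgroup.mem_bot, mul_inv_eq_one, mul_inv_eq_iff_eq_mul]
  rw [Subgroup.relIndex_bot_left] at hWc
  -- a lift with square in the lower layer
  have hsC : s * s ∈ C := ⟨hs2, by rw [show s * (s * s) * s⁻¹ * (s * s)⁻¹ = 1 by group]; exact one_mem _⟩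
  obtain ⟨p, hp, hpmem⟩ := hVr _ hsC
  obtain ⟨t, ht⟩ : ∃ t, t = s * p := ⟨_, rfl⟩
  have ht2 : t * t ∈ F := by
    have e1 : t * t = s * p * s⁻¹ * (s * s) * p := by rw [ht]; group
    obtain ⟨f, hf, hfe⟩ : ∃ f ∈ F, p * (s * p * s⁻¹) = (s * s) * f :=
      ⟨_, hpmem, (mul_inv_cancel_left _ _).symm⟩
    have e2 : s * p * s⁻¹ * (s * s) * p = p⁻¹ * ((s * s) * f) * (s * s) * p := by
      rw [← hfe, inv_mul_cancel_left]
    have e3' : ∀ q : X, p⁻¹ * (q * f) * q * p = (p⁻¹ * (q * q) * p) * ((q * p)⁻¹ * f * (q * p)) := fun q => by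
      group
    rw [e1, e2, e3' (s * s)]
    refine mul_mem ?_ ?_
    · simpa using h.normal.conj_mem _ (h.sq _ hs2) p⁻¹
    · simpa using h.normal.conj_mem _ hf ((s * s) * p)⁻¹
  have htC : ∀ {c : X}, c ∈ C → t * c * t⁻¹ * c⁻¹ ∈ F := by
    intro c hc
    rw [ht, show s * p * c * (s * p)⁻¹ * c⁻¹
        = (s * (p * c * p⁻¹ * c⁻¹) * s⁻¹) * (s * c * s⁻¹ * c⁻¹) by group]
    exact mul_mem (h.normal.conj_mem _ (h.comm_mem hp hc.1) s) hc.2
  have htF : ∀ {f : X}, f ∈ F → t * f * t⁻¹ = s * f * s⁻¹ := by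
    intro f hf
    rw [ht, show s * p * f * (s * p)⁻¹ = s * (p * f) * p⁻¹ * s⁻¹ by group, hcen p hp f hf]
    group
  have hfix : ∀ {f : X}, f ∈ F → t * f * t⁻¹ = f → f ∈ C0 := by
    intro f hf e
    rw [htF hf] at e
    exact (hC0 f).mpr ⟨hf, mul_inv_eq_iff_eq_mul.mp e⟩
  have hcF : ∀ {c d : X}, c ∈ π.ker → d ∈ F → c * d = d * c := fun hc hd => hcen _ hc _ hd
  have hCF : ∀ {c d : X}, c ∈ C → d ∈ C → (c * d * c⁻¹ * d⁻¹ ∈ C0) ∧ c * c ∈ C0 := by
    intro c d hc hd
    obtain ⟨w, hw, hwe⟩ : ∃ w ∈ F, t * c * t⁻¹ = w * c := ⟨_, htC hc, by group⟩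
    obtain ⟨v, hv, hve⟩ : ∃ v ∈ F, t * d * t⁻¹ = v * d := ⟨_, htC hd, by group⟩
    refine ⟨hfix (h.comm_mem hc.1 hd.1) ?_, hfix (h.sq c hc.1) ?_⟩
    · calc t * (c * d * c⁻¹ * d⁻¹) * t⁻¹
          = (t * c * t⁻¹) * (t * d * t⁻¹) * (t * c * t⁻¹)⁻¹ * (t * d * t⁻¹)⁻¹ := by group
        _ = w * (c * v) * d * c⁻¹ * (w⁻¹ * d⁻¹) * v⁻¹ := by rw [hwe, hve]; group
        _ = w * (v * c) * d * c⁻¹ * (d⁻¹ * w⁻¹) * v⁻¹ := by
            rw [hcF hc.1 hv, ← hcF (inv_mem hd.1) (inv_mem hw)]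
        _ = (w * v) * ((c * d * c⁻¹ * d⁻¹) * (w⁻¹ * v⁻¹)) := by group
        _ = (w * v) * ((w⁻¹ * v⁻¹) * (c * d * c⁻¹ * d⁻¹)) := by
            rw [hcF (mul_mem (mul_mem (mul_mem hc.1 hd.1) (inv_mem hc.1)) (inv_mem hd.1))
              (mul_mem (inv_mem hw) (inv_mem hv))]
        _ = (w * v * w⁻¹ * v⁻¹) * (c * d * c⁻¹ * d⁻¹) := by group
        _ = _ := by rw [hcF (h.le hw) hv]; group
    · calc t * (c * c) * t⁻¹ = (t * c * t⁻¹) * (t * c * t⁻¹) := by group
        _ = w * (c * w) * c := by rw [hwe]; group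
        _ = w * (w * c) * c := by rw [hcF hc.1 hw]
        _ = (w * w) * (c * c) := by group
        _ = _ := by rw [hexp w hw, one_mul]
  have ht2C0 : t * t ∈ C0 := hfix ht2 (by group)
  have hwfix : ∀ {c : X}, c ∈ C → t * c * t⁻¹ * c⁻¹ ∈ C0 := by
    intro c hc
    refine hfix (htC hc) ?_
    calc t * (t * c * t⁻¹ * c⁻¹) * t⁻¹
        = ((t * t) * c) * (t * t)⁻¹ * (t * c * t⁻¹)⁻¹ := by group
      _ = (c * (t * t)) * (t * t)⁻¹ * (t * c * t⁻¹)⁻¹ := by rw [← hcF hc.1 ht2]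
      _ = (t * c * t⁻¹ * c⁻¹)⁻¹ := by group
      _ = _ := inv_eq_of_mul_eq_one_left (hexp _ (htC hc))
  -- the rank five section
  have hC0C : C0 ≤ C := fun f hf => ⟨h.le hf.1,
    mul_mem (h.normal.conj_mem _ hf.1 s) (inv_mem hf.1)⟩
  have hFC : F ≤ C := fun f hf => ⟨h.le hf, mul_mem (h.normal.conj_mem _ hf s) (inv_mem hf)⟩
  have hnC : ∀ {c : X}, c ∈ C → t * c * t⁻¹ ∈ C := fun {c} hc => by
    rw [show t * c * t⁻¹ = (t * c * t⁻¹ * c⁻¹) * c by group]
    exact mul_mem (hC0C (hwfix hc)) hc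
  have htn : t ∈ Subgroup.normalizer (C : Set X) := by
    rw [Subgroup.mem_normalizer_iff]
    intro c
    refine ⟨hnC, fun hc => ?_⟩
    have := hnC (hnC hc)
    have e : t * (t * (t * c * t⁻¹) * t⁻¹) * t⁻¹ = (t * t) * (t * c * t⁻¹) * (t * t)⁻¹ := by group
    have h1 := mul_mem (mul_mem (inv_mem (hC0C ht2C0)) (hnC hc)) (hC0C ht2C0)
    rwa [show (t * t)⁻¹ * (t * (t * c * t⁻¹) * t⁻¹) * (t * t) = c by group] at h1
  let K : Subgroup X := C ⊔ Subgroup.zpowers t
  have hKmem : ∀ k ∈ K, k ∈ C ∨ ∃ c ∈ C, k = c * t := by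
    intro k hk
    have hk' : k ∈ ((C : Set X) * (Subgroup.zpowers t : Set X)) := by
      rw [← Subgroup.coe_mul_of_right_le_normalizer_left C (Subgroup.zpowers t) (Subgroup.zpowers_le.mpr htn)]
      exact hk
    obtain ⟨c, hc, z, ⟨i, rfl⟩, rfl⟩ := Set.mem_mul.mp hk'
    obtain ⟨j, hj | hj⟩ := Int.even_or_odd' i
    · left
      refine mul_mem hc ?_
      show t ^ i ∈ C
      rw [hj, zpow_mul, show t ^ (2 : ℤ) = t * t by rw [zpow_two]]
      exact zpow_mem (hC0C ht2C0) j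
    · right
      refine ⟨c * (t * t) ^ j, mul_mem hc (zpow_mem (hC0C ht2C0) j), ?_⟩
      show c * t ^ i = _
      rw [hj, zpow_add, zpow_mul, show t ^ (2 : ℤ) = t * t by rw [zpow_two], zpow_one, mul_assoc]
  have hsqK : ∀ k ∈ K, k * k ∈ C0 := by
    intro k hk
    rcases hKmem k hk with hc | ⟨c, hc, rfl⟩
    · exact (hCF hc hc).2
    · obtain ⟨w, hw, hwe⟩ : ∃ w ∈ C0, t * c * t⁻¹ = w * c := ⟨_, hwfix hc, by group⟩
      rw [show c * t * (c * t) = c * (t * c * t⁻¹) * (t * t) by group, hwe,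
        ← mul_assoc c w c, hcF hc.1 hw.1, mul_assoc w c c]
      exact mul_mem (mul_mem hw (hCF hc hc).2) ht2C0
  have hnK : ∀ k ∈ K, ∀ n ∈ C0, k * n * k⁻¹ ∈ C0 := by
    intro k hk n hn
    have htn' : t * n * t⁻¹ = n := by
      rw [htF hn.1, ((hC0 n).mp hn).2]; group
    rcases hKmem k hk with hc | ⟨c, hc, rfl⟩
    · rwa [hcF hc.1 hn.1, mul_inv_cancel_right]
    · rwa [show c * t * n * (c * t)⁻¹ = c * (t * n * t⁻¹) * c⁻¹ by group, htn', hcF hc.1 hn.1,
        mul_inv_cancel_right]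
  have hle := CfsgLib.RankFour.relIndex_le_of_sq_mem h.rank hnK hsqK
  have htnot : t ∉ C := fun htC' => e1_ne (by
    have h1 : π t = 1 := (htC' : t ∈ π.ker ∧ _).1
    rwa [ht, map_mul, hs, (hp : π p = 1), mul_one] at h1)
  have hCK : C ≤ K := le_sup_left
  have r1 := Subgroup.relIndex_mul_relIndex C0 C K hC0C hCK
  have r2 := Subgroup.relIndex_mul_relIndex ⊥ C0 C bot_le hC0C
  have r3 := Subgroup.relIndex_mul_relIndex ⊥ F C bot_le hFC
  have r4 := (hY.main h.surj h.rank).1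
  rw [Subgroup.relIndex_bot_left] at r4
  simp only [Subgroup.relIndex_bot_left] at r2 r3
  rw [hWc] at r2
  rw [r4, hVc] at r3
  have hr : C.relIndex K ≠ 1 := fun e => htnot (Subgroup.relIndex_eq_one.mp e
    (Subgroup.mem_sup_right (Subgroup.mem_zpowers t)))
  have hr0 : C.relIndex K ≠ 0 := Subgroup.index_ne_zero_of_finite
  have h16 : C0.relIndex C = 16 := by omega
  rw [h16] at r1
  omega

open CfsgLib.F2Quad in
theorem count_forms : ∀ w : Vec 2,
    (Cfsg.quadFormPlus 2 (ZMod 2) w = 1 → (Finset.univ.filter fun v : Vec 2 => qw 2 w v = 0).card = 6) ∧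
      (Cfsg.quadFormPlus 2 (ZMod 2) w ≠ 1 → (Finset.univ.filter fun v : Vec 2 => qw 2 w v = 0).card = 10) := by
  unfold qw pol Cfsg.quadFormPlus
  decide +kernel

/-- With a kernel of the form of order two, the group below is extraspecial with twelve square roots of one. -/
theorem Setup.extraspecial {F : Subgroup X} (h : Setup π F) (hF : Nat.card F = 2) :
    (∃ C : CfsgLib.Extraspecial.Coords ↥π.ker 2, ∃ w, Cfsg.quadFormPlus 2 (ZMod 2) w = 1 ∧
      C.form = CfsgLib.F2Quad.qw 2 w) ∧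
    {p : X | p ∈ π.ker ∧ p * p = 1}.ncard = 12 := by
  classical
  haveI := h.normal
  haveI : Fact (Nat.Prime 5) := ⟨by norm_num⟩
  obtain ⟨z, hz1, hzu⟩ := (Nat.card_eq_two_iff' (1 : F)).mp hF
  have hFel : ∀ f ∈ F, f = 1 ∨ f = (z : X) := fun f hf => by
    by_cases h1 : (⟨f, hf⟩ : F) = 1
    · exact Or.inl (congrArg Subtype.val h1)
    · exact Or.inr (congrArg Subtype.val (hzu _ h1))
  have hzne : (z : X) ≠ 1 := fun e => hz1 (Subtype.ext e)
  have hconjz : ∀ y : X, y * (z : X) * y⁻¹ = z := by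
    intro y
    rcases hFel _ (h.normal.conj_mem z z.2 y) with e | e
    · exact absurd (by simpa using e) hzne
    · exact e
  have hFc : ∀ f ∈ F, ∀ y : X, y * f * y⁻¹ = f := fun f hf y => by
    rcases hFel f hf with rfl | rfl
    · group
    · exact hconjz y
  have hP32 : Nat.card π.ker = 32 := by rw [h.card_ker, hF]
  have hexp : ∀ f ∈ F, f * f = 1 := fun f hf => by
    have := pow_card_eq_one' (x := (⟨f, hf⟩ : F))
    rw [hF, pow_two] at this
    exact congrArg Subtype.val this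
  -- the centre
  let Z : Subgroup X := π.ker ⊓ Subgroup.centralizer (π.ker : Set X)
  haveI : Z.Normal := inferInstance
  have hFZ : F ≤ Z := fun f hf => ⟨h.le hf, Subgroup.mem_centralizer_iff.mpr fun p _ => by
    exact mul_inv_eq_iff_eq_mul.mp (hFc f hf p)⟩
  obtain ⟨x, hx5, hπ5, hπ1⟩ := h.exists_order_five
  have hx : ∀ p ∈ π.ker, x * p * x⁻¹ * p⁻¹ ∈ F → p ∈ F := (h.sec.main h.surj h.rank).2.1 x hπ5 hπ1
  have hZF : Z = F := by
    by_contra hne
    have hZP := h.sec.eq_top h.surj h.rank (D := Z) hFZ inf_le_left hne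
    have hab : ∀ a ∈ π.ker, ∀ b ∈ π.ker, a * b = b * a := fun a ha b hb =>
      (Subgroup.mem_centralizer_iff.mp ((hZP ▸ hb : b ∈ Z).2) a ha)
    let K : Subgroup X :=
      { carrier := {p | p ∈ π.ker ∧ p * p = 1}
        one_mem' := ⟨one_mem _, one_mul 1⟩
        mul_mem' := fun {a b} ha hb => ⟨mul_mem ha.1 hb.1, by
          rw [show a * b * (a * b) = a * (b * a) * b by group, hab b hb.1 a ha.1,
            show a * (a * b) * b = (a * a) * (b * b) by group, ha.2, hb.2, one_mul]⟩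
        inv_mem' := fun {a} ha => ⟨inv_mem ha.1, by rw [← mul_inv_rev, ha.2, inv_one]⟩ }
    haveI : K.Normal := ⟨fun a ha y => ⟨π.normal_ker.conj_mem _ ha.1 y, by
      rw [show y * a * y⁻¹ * (y * a * y⁻¹) = y * (a * a) * y⁻¹ by group, ha.2]; group⟩⟩
    have hFK : F ≤ K := fun f hf => ⟨h.le hf, hexp f hf⟩
    have hKP : K ≤ π.ker := fun a ha => ha.1
    by_cases hKF : K = F
    · obtain ⟨a, ha, haF⟩ : ∃ a ∈ π.ker, a ∉ F := by
        by_contra hno
        push Not at hno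
        have hle := Subgroup.card_le_of_le (show π.ker ≤ F from hno)
        omega
      -- squaring is a homomorphism with kernel at least of order sixteen
      have hz : ∀ p ∈ π.ker, p ∉ K → p * p = z := fun p hp hpK =>
        (hFel _ (h.sq p hp)).resolve_left fun e => hpK ⟨hp, e⟩
      have hall : ∀ p ∈ π.ker, p ∈ F ∨ a⁻¹ * p ∈ F := by
        intro p hp
        by_cases hpF : p ∈ F
        · exact Or.inl hpF
        · right
          rw [← hKF]
          refine ⟨mul_mem (inv_mem ha) hp, ?_⟩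
          rw [show a⁻¹ * p * (a⁻¹ * p) = a⁻¹ * (p * a⁻¹) * p by group, hab p hp a⁻¹ (inv_mem ha),
            show a⁻¹ * (a⁻¹ * p) * p = (a * a)⁻¹ * (p * p) by group, hz a ha (hKF ▸ haF), hz p hp (hKF ▸ hpF),
            inv_mul_cancel]
      have hcl : (π.ker : Set X) ⊆ (F : Set X) ∪ (fun f => a * f) '' F := fun p hp =>
        (hall p hp).imp id fun hh => ⟨_, hh, mul_inv_cancel_left _ _⟩
      have h1 := Set.ncard_le_ncard hcl (Set.toFinite _)
      have h2 := (Set.ncard_union_le (F : Set X) ((fun f => a * f) '' F))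
      have h3 : ((fun f => a * f) '' (F : Set X)).ncard = (F : Set X).ncard :=
        Set.ncard_image_of_injective _ (mul_right_injective a)
      rw [h3] at h2
      have h4 : (F : Set X).ncard = 2 := by rw [← Nat.card_coe_set_eq]; exact hF
      have h5 : (π.ker : Set X).ncard = 32 := by rw [← Nat.card_coe_set_eq]; exact hP32
      omega
    · have hKtop := h.sec.eq_top h.surj h.rank (D := K) hFK hKP hKF
      have hle := CfsgLib.RankFour.relIndex_le_of_sq_mem h.rank (X := π.ker) (N := ⊥)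
        (fun y _ n hn => by rw [Subgroup.mem_bot] at hn ⊢; rw [hn]; group)
        (fun p hp => Subgroup.mem_bot.mpr ((hKtop ▸ hp : p ∈ K).2))
      rw [Subgroup.relIndex_bot_left, hP32] at hle
      norm_num at hle
  have hcen : ∀ p : π.ker, (∀ q : π.ker, q * p = p * q) → (p : X) ∈ F := fun p hp => by
    rw [← hZF]
    exact ⟨p.2, Subgroup.mem_centralizer_iff.mpr fun q hq => congrArg Subtype.val (hp ⟨q, hq⟩)⟩
  have hE : Cfsg.IsExtraspecial 2 ↥π.ker := by
    refine CfsgLib.LargeXS.isExtraspecial_of h.two (c := ⟨z, h.le z.2⟩)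
      (fun e => hzne (congrArg Subtype.val e)) (fun a b => ?_) (fun a => ?_) (fun p hp => ?_) (fun q => ?_) ?_
    · exact (hFel _ (h.comm_mem a.2 b.2)).imp Subtype.ext Subtype.ext
    · exact (hFel _ (h.sq a a.2)).imp Subtype.ext Subtype.ext
    · exact (hFel _ (hcen p hp)).imp Subtype.ext Subtype.ext
    · exact Subtype.ext (mul_inv_eq_iff_eq_mul.mp (hconjz q))
    · by_contra hno
      push Not at hno
      have hle : π.ker ≤ F := fun p hp => by
        by_cases h1 : (⟨p, hp⟩ : π.ker) = 1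
        · rw [show p = 1 from congrArg Subtype.val h1]; exact one_mem _
        · rw [show p = (z : X) from congrArg Subtype.val (hno _ h1)]; exact z.2
      have := Subgroup.card_le_of_le hle
      omega
  obtain ⟨C⟩ := CfsgLib.Extraspecial.exists_coords hE 2 (by rw [hP32]; norm_num)
  obtain ⟨w, hw⟩ := CfsgLib.F2Quad.exists_eq_qw 2 C.form_qf
  -- the fibres of the projection
  let proj : ↥π.ker →* Multiplicative (CfsgLib.F2Quad.Vec 2) :=
    MonoidHom.mk' (fun p => Multiplicative.ofAdd (C.proj p)) fun a b => by rw [← ofAdd_add, C.proj_mul]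
  have hpk : proj.ker = Subgroup.center ↥π.ker := by
    ext p
    rw [MonoidHom.mem_ker]
    exact ofAdd_eq_one.trans (C.proj_eq_zero p)
  have hps : Function.Surjective proj := fun v => by
    obtain ⟨p, hp⟩ := C.proj_surj v.toAdd
    exact ⟨p, by show Multiplicative.ofAdd (C.proj p) = v; rw [hp]; rfl⟩
  have hfib : ∀ v, Nat.card {p : ↥π.ker // proj p = v} = 2 := fun v => by
    obtain ⟨p, hp⟩ := hps v
    refine Eq.trans ?_ C.centre_card
    rw [← hpk]
    refine Nat.card_congr ?_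
    subst hp
    exact proj.fiberEquivKer p
  let S : Set X := {p | p ∈ π.ker ∧ p * p = 1}
  have hS : S.ncard = 2 * (Finset.univ.filter fun v : CfsgLib.F2Quad.Vec 2 => CfsgLib.F2Quad.qw 2 w v = 0).card := by
    rw [← hw, ← Nat.card_coe_set_eq]
    have e1 : Nat.card S = Nat.card {p : ↥π.ker // C.form (C.proj p) = 0} :=
      Nat.card_congr
        { toFun := fun p => ⟨⟨p, p.2.1⟩, (C.sq_eq_one _).mp (Subtype.ext p.2.2)⟩
          invFun := fun p => ⟨p.1, p.1.2, congrArg Subtype.val ((C.sq_eq_one p.1).mpr p.2)⟩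
          left_inv := fun _ => rfl
          right_inv := fun _ => rfl }
    have e2 : Nat.card {p : ↥π.ker // C.form (C.proj p) = 0} =
        Nat.card (Σ v : {v : CfsgLib.F2Quad.Vec 2 // C.form v = 0},
          {p : ↥π.ker // proj p = Multiplicative.ofAdd v.1}) :=
      Nat.card_congr
        { toFun := fun p => ⟨⟨C.proj p.1, p.2⟩, p.1, rfl⟩
          invFun := fun q => ⟨q.2.1, by
            have hh : C.proj q.2.1 = q.1.1 := Multiplicative.ofAdd.injective q.2.2
            rw [hh]; exact q.1.2⟩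
          left_inv := fun _ => rfl
          right_inv := fun q => by
            obtain ⟨⟨v, hv⟩, p, hp⟩ := q
            have hh : C.proj p = v := Multiplicative.ofAdd.injective hp
            subst hh
            rfl }
    rw [e1, e2, Nat.card_sigma, Finset.sum_congr rfl (fun v _ => hfib _), Finset.sum_const, smul_eq_mul,
      Finset.card_univ, Fintype.card_subtype, mul_comm]
  -- the fixed points of the element of order five
  have hmod : S.ncard % 5 = 2 := by
    let σ : Equiv.Perm S :=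
      { toFun := fun p => ⟨x * p * x⁻¹, π.normal_ker.conj_mem _ p.2.1 x, by
          rw [show x * (p : X) * x⁻¹ * (x * p * x⁻¹) = x * ((p : X) * p) * x⁻¹ by group, p.2.2]; group⟩
        invFun := fun p => ⟨x⁻¹ * p * x, by simpa using π.normal_ker.conj_mem _ p.2.1 x⁻¹, by
          rw [show x⁻¹ * (p : X) * x * (x⁻¹ * p * x) = x⁻¹ * ((p : X) * p) * x by group, p.2.2]; group⟩
        left_inv := fun p => Subtype.ext (by show x⁻¹ * (x * p * x⁻¹) * x = p; group)
        right_inv := fun p => Subtype.ext (by show x * (x⁻¹ * p * x) * x⁻¹ = p; group) }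
    haveI : Fintype S := Fintype.ofFinite _
    have hpow : ∀ (n : ℕ) (p : S), ((σ ^ n) p : X) = x ^ n * p * (x ^ n)⁻¹ := by
      intro n
      induction n with
      | zero => intro p; simp
      | succ n ih =>
        intro p
        rw [pow_succ, Equiv.Perm.mul_apply, ih]
        show x ^ n * (x * p * x⁻¹) * (x ^ n)⁻¹ = _
        rw [pow_succ]; group
    have hσ : σ ^ 5 ^ 1 = 1 := Equiv.ext fun p => Subtype.ext (by
      rw [pow_one, hpow, hx5, Equiv.Perm.one_apply]; group)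
    have hcount := Equiv.Perm.card_compl_support_modEq (p := 5) (n := 1) hσ
    have hfix : σ.supportᶜ = Finset.univ.filter (fun p : S => (p : X) ∈ F) := by
      ext p
      simp only [Finset.mem_compl, Equiv.Perm.mem_support, not_not, Finset.mem_filter, Finset.mem_univ, true_and]
      constructor
      · intro hp
        refine hx p p.2.1 ?_
        have e : x * (p : X) * x⁻¹ = p := congrArg Subtype.val hp
        rw [e, mul_inv_cancel]; exact one_mem _
      · intro hp; exact Subtype.ext (hFc p hp x)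
    have hc2 : (Finset.univ.filter (fun p : S => (p : X) ∈ F)).card = 2 := by
      rw [← Fintype.card_subtype, ← Nat.card_eq_fintype_card, ← hF]
      exact Nat.card_congr
        { toFun := fun p => ⟨p.1.1, p.2⟩
          invFun := fun f => ⟨⟨f.1, h.le f.2, hexp f f.2⟩, f.2⟩
          left_inv := fun _ => rfl
          right_inv := fun _ => rfl }
    rw [hfix, hc2] at hcount
    rw [← Nat.card_coe_set_eq, Nat.card_eq_fintype_card]
    exact hcount.symm
  obtain ⟨k1, k2⟩ := count_forms w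
  by_cases hq : Cfsg.quadFormPlus 2 (ZMod 2) w = 1
  · exact ⟨⟨C, w, hq, hw⟩, by show S.ncard = 12; rw [hS, k1 hq]⟩
  · rw [hS, k2 hq] at hmod; norm_num at hmod

/-- Square roots modulo a subgroup of index two of the bottom. -/
theorem Setup.count {F : Subgroup X} (h : Setup π F) (N : Subgroup X) [N.Normal] (hNF : N ≤ F)
    (h2 : N.relIndex F = 2) : {p : X | p ∈ π.ker ∧ p * p ∈ N}.ncard = 12 * Nat.card N := by
  obtain ⟨π', -, hker, h'⟩ := h.quotient N hNF
  have hc : Nat.card (F.map (QuotientGroup.mk' N)) = 2 := by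
    rw [← h2, ← Subgroup.relIndex_bot_left, ← Subgroup.relIndex_comap, MonoidHom.comap_bot, QuotientGroup.ker_mk']
  obtain ⟨-, h12⟩ := h'.extraspecial hc
  have hpre : (QuotientGroup.mk : X → X ⧸ N) ⁻¹' {p | p ∈ π'.ker ∧ p * p = 1} = {p | p ∈ π.ker ∧ p * p ∈ N} := by
    ext p
    rw [Set.mem_preimage, Set.mem_setOf_eq, Set.mem_setOf_eq, hker, ← QuotientGroup.mk_mul,
      QuotientGroup.eq_one_iff]
    refine and_congr_left fun _ => ⟨?_, fun hp => ⟨p, hp, rfl⟩⟩
    rintro ⟨q, hq, e⟩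
    have e' : (q : X ⧸ N) = (p : X ⧸ N) := e
    rw [QuotientGroup.eq] at e'
    simpa using mul_mem hq (h.le (hNF e'))
  rw [← hpre, ← Nat.card_coe_set_eq, Nat.card_congr (QuotientGroup.preimageMkEquivSubgroupProdSet N _),
    Nat.card_prod, Nat.card_coe_set_eq, h12, mul_comm]

/-- A homomorphism from the alternating group of degree five to a small group is trivial. -/
theorem hom_eq_one {M : Type*} [Group M] [Finite M] (θ : A5 →* M) (hM : Nat.card M < 60) : θ = 1 := by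
  haveI : IsSimpleGroup A5 := alternatingGroup.isSimpleGroup (by simp)
  rcases θ.normal_ker.eq_bot_or_eq_top with h | h
  · have := Nat.card_le_card_of_injective θ ((MonoidHom.ker_eq_bot_iff θ).mp h)
    have h60 : Nat.card A5 = 60 := by rw [Nat.card_eq_fintype_card]; decide
    omega
  · exact MonoidHom.ker_eq_top_iff.mp h

open CfsgLib.F2Quad in
theorem pol_nonzero : ∃ u v : Vec 2, pol 2 u v = 1 := by unfold pol; decide +kernel

/-- No group of order four lies at the bottom. -/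
theorem Setup.not_four {F : Subgroup X} (h : Setup π F) (hF : Nat.card F = 4) {Y : Subgroup X} [Y.Normal]
    (hYF : Y ≤ F) (hY : Nat.card Y = 2) : False := by
  classical
  haveI := h.normal
  obtain ⟨y, hy1, hyu⟩ := (Nat.card_eq_two_iff' (1 : Y)).mp hY
  have hYel : ∀ f ∈ Y, f = 1 ∨ f = (y : X) := fun f hf => by
    by_cases h1 : (⟨f, hf⟩ : Y) = 1
    · exact Or.inl (congrArg Subtype.val h1)
    · exact Or.inr (congrArg Subtype.val (hyu _ h1))
  have hyne : (y : X) ≠ 1 := fun e => hy1 (Subtype.ext e)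
  have hYc : ∀ f ∈ Y, ∀ g : X, g * f = f * g := fun f hf g => by
    rcases hYel f hf with rfl | rfl
    · rw [mul_one, one_mul]
    · rcases hYel _ (Subgroup.Normal.conj_mem inferInstance (y : X) y.2 g) with e | e
      · exact absurd (by simpa using e) hyne
      · exact mul_inv_eq_iff_eq_mul.mp e
  have hrel : Y.relIndex F = 2 := by
    have h1 := Subgroup.relIndex_mul_relIndex ⊥ Y F bot_le hYF
    rw [Subgroup.relIndex_bot_left, Subgroup.relIndex_bot_left, hY, hF] at h1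
    omega
  obtain ⟨f₀, hf₀, hf₀Y⟩ : ∃ f ∈ F, f ∉ Y := by
    by_contra hno
    push Not at hno
    have := Subgroup.card_le_of_le (show F ≤ Y from hno)
    omega
  have hsplit : ∀ f ∈ F, f ∈ Y ∨ f₀⁻¹ * f ∈ Y := fun f hf => by
    by_cases hfY : f ∈ Y
    · exact Or.inl hfY
    · have := (Subgroup.mul_mem_iff_of_index_two (H := Y.subgroupOf F) hrel
        (a := (⟨f₀, hf₀⟩ : F)⁻¹) (b := ⟨f, hf⟩)).mpr
        (iff_of_false (fun e => hf₀Y (inv_mem_iff.mp (by simpa [Subgroup.mem_subgroupOf] using e)))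
          (fun e => hfY (Subgroup.mem_subgroupOf.mp e)))
      exact Or.inr (by simpa [Subgroup.mem_subgroupOf] using this)
  have hcomF : ∀ g : X, g * f₀ = f₀ * g → ∀ f ∈ F, g * f = f * g := by
    intro g hg f hf
    rcases hsplit f hf with hh | hh
    · exact hYc f hh g
    · rw [show f = f₀ * (f₀⁻¹ * f) by group, ← mul_assoc, hg, mul_assoc, hYc _ hh g]; group
  have hzero : ∀ g : X, g * f₀ * g⁻¹ * f₀⁻¹ ∈ Y := fun g => by
    rcases hsplit _ (h.normal.conj_mem f₀ hf₀ g) with hh | hh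
    · refine absurd ?_ hf₀Y
      have := Subgroup.Normal.conj_mem (inferInstance : Y.Normal) _ hh g⁻¹
      simpa [mul_assoc] using this
    · rw [show g * f₀ * g⁻¹ * f₀⁻¹ = f₀ * (f₀⁻¹ * (g * f₀ * g⁻¹)) * f₀⁻¹ by group]
      exact Subgroup.Normal.conj_mem inferInstance _ hh f₀
  -- the bottom is central in the kernel
  let D : Subgroup X := π.ker ⊓ Subgroup.centralizer (F : Set X)
  haveI : D.Normal := inferInstance
  have hFD : F ≤ D := fun f hf => ⟨h.le hf, Subgroup.mem_centralizer_iff.mpr fun g hg => by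
    rcases hsplit g hg with hh | hh
    · exact (hYc g hh f).symm
    · refine (hcomF f ?_ g hg).symm
      rcases hsplit f hf with h' | h'
      · exact (hYc f h' f₀).symm
      · rw [show f = f₀ * (f₀⁻¹ * f) by group, mul_assoc f₀ _ f₀, ← hYc _ h' f₀]⟩
  have hD : ∀ p ∈ π.ker, p ∉ D → p * f₀ * p⁻¹ = (y : X) * f₀ := fun p hp hpD => by
    rcases hYel _ (hzero p) with e | e
    · exact absurd ⟨hp, Subgroup.mem_centralizer_iff.mpr fun f hf =>
        (hcomF p (mul_inv_eq_iff_eq_mul.mp (mul_inv_eq_one.mp e)) f hf).symm⟩ hpD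
    · rw [← e]; group
  have hDP : D = π.ker := by
    by_contra hne
    have hDF : D = F := by
      by_contra hDF
      exact hne (h.sec.eq_top h.surj h.rank hFD inf_le_left hDF)
    obtain ⟨a, ha, haF⟩ : ∃ a ∈ π.ker, a ∉ F := by
      by_contra hno
      push Not at hno
      have := Subgroup.card_le_of_le (show π.ker ≤ F from hno)
      rw [h.card_ker] at this
      omega
    have hcl : (π.ker : Set X) ⊆ (F : Set X) ∪ (fun f => a * f) '' F := by
      intro p hp
      by_cases hpF : p ∈ F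
      · exact Or.inl hpF
      · refine Or.inr ⟨a⁻¹ * p, ?_, mul_inv_cancel_left _ _⟩
        show a⁻¹ * p ∈ F
        rw [← hDF]
        refine Subgroup.mem_inf.mpr ⟨mul_mem (inv_mem ha) hp, Subgroup.mem_centralizer_iff.mpr fun f hf => (hcomF _ ?_ f hf).symm⟩
        have e1 := hD p hp (hDF ▸ hpF)
        have e2 := hD a ha (hDF ▸ haF)
        have e3 : p * f₀ * p⁻¹ = a * f₀ * a⁻¹ := e1.trans e2.symm
        calc a⁻¹ * p * f₀ = a⁻¹ * (p * f₀ * p⁻¹) * p := by group
          _ = f₀ * (a⁻¹ * p) := by rw [e3]; group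
    have h1 := Set.ncard_le_ncard hcl (Set.toFinite _)
    have h2 := Set.ncard_union_le (F : Set X) ((fun f => a * f) '' F)
    have h3 : ((fun f => a * f) '' (F : Set X)).ncard = (F : Set X).ncard :=
      Set.ncard_image_of_injective _ (mul_right_injective a)
    have h4 : (F : Set X).ncard = 4 := by rw [← Nat.card_coe_set_eq]; exact hF
    have h5 : (π.ker : Set X).ncard = 64 := by
      rw [← Nat.card_coe_set_eq]; exact h.card_ker.trans (by rw [hF])
    omega
  have hFP : ∀ p ∈ π.ker, ∀ f ∈ F, p * f = f * p := fun p hp f hf =>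
    (Subgroup.mem_centralizer_iff.mp ((hDP.symm ▸ hp : p ∈ D).2) f hf).symm
  -- the bottom is central
  let θ : X →* Y := MonoidHom.mk' (fun g => ⟨_, hzero g⟩) fun g k => Subtype.ext (by
    show g * k * f₀ * (g * k)⁻¹ * f₀⁻¹ = (g * f₀ * g⁻¹ * f₀⁻¹) * (k * f₀ * k⁻¹ * f₀⁻¹)
    rw [show g * k * f₀ * (g * k)⁻¹ * f₀⁻¹ = g * (k * f₀ * k⁻¹ * f₀⁻¹) * (f₀ * g⁻¹ * f₀⁻¹) by group,
      hYc _ (hzero k) g,
      show k * f₀ * k⁻¹ * f₀⁻¹ * g * (f₀ * g⁻¹ * f₀⁻¹) = (k * f₀ * k⁻¹ * f₀⁻¹) * (g * f₀ * g⁻¹ * f₀⁻¹) by group,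
      ← hYc _ (hzero k) (g * f₀ * g⁻¹ * f₀⁻¹)])
  have hker : π.ker ≤ θ.ker := fun p hp => by
    rw [MonoidHom.mem_ker]
    exact Subtype.ext (show p * f₀ * p⁻¹ * f₀⁻¹ = 1 by rw [hFP p hp f₀ hf₀]; group)
  have hθ : ∀ g : X, g * f₀ = f₀ * g := fun g => by
    have h1 := hom_eq_one (π.liftOfSurjective h.surj ⟨θ, hker⟩) (by rw [hY]; norm_num)
    have h2 : (π.liftOfSurjective h.surj ⟨θ, hker⟩) (π g) = θ g :=
      MonoidHom.liftOfRightInverse_comp_apply π _ _ ⟨θ, hker⟩ g
    rw [h1] at h2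
    have h3 : g * f₀ * g⁻¹ * f₀⁻¹ = 1 := (congrArg Subtype.val h2).symm
    exact mul_inv_eq_iff_eq_mul.mp (mul_inv_eq_one.mp h3)
  have hFX : ∀ f ∈ F, ∀ g : X, g * f = f * g := fun f hf g => hcomF g (hθ g) f hf
  -- a commutator outside
  obtain ⟨π', -, hker', h'⟩ := h.quotient Y hYF
  have hc2 : Nat.card (F.map (QuotientGroup.mk' Y)) = 2 := by
    rw [← hrel, ← Subgroup.relIndex_bot_left, ← Subgroup.relIndex_comap, MonoidHom.comap_bot, QuotientGroup.ker_mk']
  obtain ⟨⟨C, -⟩, -⟩ := h'.extraspecial hc2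
  obtain ⟨u, v, huv⟩ := pol_nonzero
  obtain ⟨a', ha'⟩ := C.proj_surj u
  obtain ⟨b', hb'⟩ := C.proj_surj v
  obtain ⟨a, ha, hae⟩ := (hker' ▸ a'.2 : (a' : X ⧸ Y) ∈ π.ker.map (QuotientGroup.mk' Y))
  obtain ⟨b, hb, hbe⟩ := (hker' ▸ b'.2 : (b' : X ⧸ Y) ∈ π.ker.map (QuotientGroup.mk' Y))
  obtain ⟨c, hc⟩ : ∃ c, c = a * b * a⁻¹ * b⁻¹ := ⟨_, rfl⟩
  have hcY : c ∉ Y := by
    intro hcY
    have h1 : ⁅a', b'⁆ = 1 := by
      rw [commutatorElement_def]
      refine Subtype.ext ?_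
      show (a' : X ⧸ Y) * b' * (a' : X ⧸ Y)⁻¹ * (b' : X ⧸ Y)⁻¹ = 1
      rw [← hae, ← hbe, ← map_inv, ← map_inv, ← map_mul, ← map_mul, ← map_mul]
      exact (QuotientGroup.eq_one_iff _).mpr (hc ▸ hcY)
    rw [C.comm_eq_one, ha', hb', huv] at h1
    exact one_ne_zero h1
  have hcF : c ∈ F := hc ▸ h.comm_mem ha hb
  have hc2' : c * c = 1 := by
    have e1 : c * c = a * (b * a⁻¹ * b⁻¹ * a) * (b * a⁻¹ * b⁻¹) := by rw [hc]; group
    have e2 : a * a * b = b * (a * a) := (hFX _ (h.sq a ha) b).symm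
    have e3 : b * a⁻¹ * b⁻¹ * a = (b * a⁻¹ * b⁻¹ * a) := rfl
    have e4 : a * c = c * a := hFX c hcF a
    calc c * c = c * (a * b * a⁻¹ * b⁻¹) := by rw [← hc]
      _ = (c * a) * b * a⁻¹ * b⁻¹ := by group
      _ = (a * c) * b * a⁻¹ * b⁻¹ := by rw [e4]
      _ = (a * a * b) * a⁻¹ * a⁻¹ * b⁻¹ := by rw [hc]; group
      _ = b * (a * a) * a⁻¹ * a⁻¹ * b⁻¹ := by rw [e2]
      _ = 1 := by group
  have hy2 : (y : X) * y = 1 := by
    have := pow_card_eq_one' (x := y)
    rw [hY, pow_two] at this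
    exact congrArg Subtype.val this
  have hall : ∀ f ∈ F, f = 1 ∨ f = (y : X) ∨ f = c ∨ f = c * y := by
    intro f hf
    rcases hsplit f hf with hh | hh
    · exact (hYel f hh).imp id Or.inl
    · have h1 : c⁻¹ * f ∈ Y := by
        have h2 := (hsplit c hcF).resolve_left hcY
        simpa [mul_assoc] using mul_mem (inv_mem h2) hh
      rcases hYel _ h1 with e | e
      · exact Or.inr (Or.inr (Or.inl (inv_mul_eq_one.mp e).symm))
      · exact Or.inr (Or.inr (Or.inr (inv_mul_eq_iff_eq_mul.mp e)))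
  -- three subgroups of order two
  have hsub : ∀ t ∈ F, t * t = 1 → t ≠ 1 →
      (Subgroup.zpowers t).Normal ∧ Subgroup.zpowers t ≤ F ∧ (Subgroup.zpowers t).relIndex F = 2 ∧
        Nat.card (Subgroup.zpowers t) = 2 := by
    intro t ht ht2 ht1
    have hle : Subgroup.zpowers t ≤ F := Subgroup.zpowers_le.mpr ht
    have hcard : Nat.card (Subgroup.zpowers t) = 2 := by
      rw [Nat.card_zpowers]; exact orderOf_eq_prime (by rw [pow_two, ht2]) ht1
    refine ⟨⟨fun n hn g => ?_⟩, hle, ?_, hcard⟩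
    · rw [hFX n (hle hn) g, mul_inv_cancel_right]; exact hn
    · have h1 := Subgroup.relIndex_mul_relIndex ⊥ (Subgroup.zpowers t) F bot_le hle
      rw [Subgroup.relIndex_bot_left, Subgroup.relIndex_bot_left, hcard, hF] at h1
      omega
  have hset : ∀ t ∈ F, t * t = 1 → t ≠ 1 →
      {p : X | p ∈ π.ker ∧ p * p ∈ Subgroup.zpowers t}.ncard = 6 * Nat.card F := by
    intro t ht ht2 ht1
    obtain ⟨h1, h2, h3, h4⟩ := hsub t ht ht2 ht1
    haveI := h1
    rw [h.count _ h2 h3, h4, hF]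
  have hmemz : ∀ t : X, (1 : X) * 1 ∈ Subgroup.zpowers t := fun t => by rw [one_mul]; exact one_mem _
  obtain ⟨-, -, -, huni⟩ := h.sec.main h.surj h.rank
  have hsq2 : ∀ p ∈ π.ker, ∀ f ∈ F, f * f = 1 := fun p _ f hf => by
    rcases hall f hf with rfl | rfl | rfl | rfl
    · exact one_mul 1
    · exact hy2
    · exact hc2'
    · rw [show c * (y : X) * (c * y) = c * (y * c) * y by group, hFX _ hcF (y : X),
        show c * (c * (y : X)) * y = (c * c) * (y * y) by group, hc2', hy2, one_mul]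
  have hinv : ∀ t ∈ F, t * t = 1 → t ≠ 1 → ∀ x : X, ∀ p ∈ {p : X | p ∈ π.ker ∧ p * p ∈ Subgroup.zpowers t},
      x * p * x⁻¹ ∈ {p : X | p ∈ π.ker ∧ p * p ∈ Subgroup.zpowers t} := fun t ht ht2 ht1 x p hp =>
    ⟨π.normal_ker.conj_mem _ hp.1 x, by
      rw [show x * p * x⁻¹ * (x * p * x⁻¹) = x * (p * p) * x⁻¹ by group]
      exact (hsub t ht ht2 ht1).1.conj_mem _ hp.2 x⟩
  have hclo : ∀ t : X, ∀ p ∈ {p : X | p ∈ π.ker ∧ p * p ∈ Subgroup.zpowers t}, ∀ f ∈ F,
      p * f ∈ {p : X | p ∈ π.ker ∧ p * p ∈ Subgroup.zpowers t} := fun t p hp f hf =>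
    ⟨mul_mem hp.1 (h.le hf), by
      rw [show p * f * (p * f) = p * (f * p) * f by group, ← hFP p hp.1 f hf,
        show p * (p * f) * f = (p * p) * (f * f) by group, hsq2 p hp.1 f hf, mul_one]
      exact hp.2⟩
  have heq : ∀ t ∈ F, t * t = 1 → t ≠ 1 →
      {p : X | p ∈ π.ker ∧ p * p ∈ Subgroup.zpowers (y : X)} = {p : X | p ∈ π.ker ∧ p * p ∈ Subgroup.zpowers t} :=
    fun t ht ht2 ht1 => huni _ _ (fun p hp => hp.1) (fun p hp => hp.1) (hinv _ (hYF y.2) hy2 hyne)
      (hinv t ht ht2 ht1) (hclo _) (hclo t) ⟨one_mem _, hmemz _⟩ ⟨one_mem _, hmemz _⟩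
      (hset _ (hYF y.2) hy2 hyne) (hset t ht ht2 ht1)
  have hcne : c ≠ 1 := fun e => hcY (e ▸ one_mem Y)
  have hcyne : c * (y : X) ≠ 1 := fun e => hcY (by rw [mul_eq_one_iff_eq_inv.mp e]; exact inv_mem y.2)
  have hwhole : (π.ker : Set X) ⊆ {p : X | p ∈ π.ker ∧ p * p ∈ Subgroup.zpowers (y : X)} := by
    intro p hp
    rcases hall _ (h.sq p hp) with e | e | e | e
    · exact ⟨hp, by rw [e]; exact one_mem _⟩
    · exact ⟨hp, by rw [e]; exact Subgroup.mem_zpowers _⟩
    · rw [heq c hcF hc2' hcne]; exact ⟨hp, by rw [e]; exact Subgroup.mem_zpowers _⟩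
    · rw [heq (c * y) (mul_mem hcF (hYF y.2)) (hsq2 1 (one_mem _) _ (mul_mem hcF (hYF y.2))) hcyne]
      exact ⟨hp, by rw [e]; exact Subgroup.mem_zpowers _⟩
  have h1 := Set.ncard_le_ncard hwhole (Set.toFinite _)
  rw [hset _ (hYF y.2) hy2 hyne, hF, ← Nat.card_coe_set_eq] at h1
  have h2 : Nat.card (π.ker : Set X) = 64 := h.card_ker.trans (by rw [hF])
  omega

/-- The bottom has order at most two. -/
theorem card_le_two : ∀ (n : ℕ) (X : Type u) [Group X] [Finite X] (π : X →* A5) (F : Subgroup X),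
    Setup π F → Nat.card X = n → Nat.card F ≤ 2 := by
  intro n
  induction n using Nat.strong_induction_on with
  | _ n ih =>
    intro X _ _ π F h hn
    haveI := h.normal
    haveI : Fact (Nat.Prime 2) := ⟨Nat.prime_two⟩
    by_contra hbig
    push Not at hbig
    have hFne : F ≠ ⊥ := fun e => by rw [e, Subgroup.card_bot] at hbig; omega
    obtain ⟨Y, hYm⟩ := Set.Finite.exists_minimal (s := {Y : Subgroup X | Y.Normal ∧ Y ≤ F ∧ Y ≠ ⊥})
      (Set.toFinite _) ⟨F, h.normal, le_rfl, hFne⟩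
    obtain ⟨hYn, hYF, hY1⟩ := hYm.prop
    haveI := hYn
    have hmin : ∀ Z : Subgroup X, Z.Normal → Z ≤ Y → Z ≠ ⊥ → Z = Y := fun Z hZ hle hne =>
      le_antisymm hle (hYm.le_of_le ⟨hZ, hle.trans hYF, hne⟩ hle)
    -- it is central in the kernel and of exponent two
    obtain ⟨z, hzY, hzc, hz2⟩ := CfsgLib.PGroup.exists_central_orderOf_eq h.two (Y.subgroupOf π.ker)
      (fun e => hY1 (by
        rw [← Subgroup.map_subgroupOf_eq_of_le (hYF.trans h.le), e, Subgroup.map_bot]))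
    let Z₂ : Subgroup X :=
      { carrier := {v | v ∈ Y ⊓ Subgroup.centralizer (π.ker : Set X) ∧ v * v = 1}
        one_mem' := ⟨one_mem _, one_mul 1⟩
        mul_mem' := fun {a b} ha hb => ⟨mul_mem ha.1 hb.1, by
          have hab : a * b = b * a :=
            (Subgroup.mem_centralizer_iff.mp ha.1.2 b ((hYF.trans h.le) hb.1.1)).symm
          rw [show a * b * (a * b) = a * (b * a) * b by group, ← hab,
            show a * (a * b) * b = (a * a) * (b * b) by group, ha.2, hb.2, one_mul]⟩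
        inv_mem' := fun {a} ha => ⟨inv_mem ha.1, by rw [← mul_inv_rev, ha.2, inv_one]⟩ }
    have hZn : Z₂.Normal := ⟨fun a ha g => ⟨Subgroup.Normal.conj_mem inferInstance a ha.1 g, by
      rw [show g * a * g⁻¹ * (g * a * g⁻¹) = g * (a * a) * g⁻¹ by group, ha.2]; group⟩⟩
    have hzZ : (z : X) ∈ Z₂ := by
      refine ⟨⟨hzY, Subgroup.mem_centralizer_iff.mpr fun p hp =>
        congrArg Subtype.val (Subgroup.mem_center_iff.mp hzc ⟨p, hp⟩)⟩, ?_⟩
      have := pow_orderOf_eq_one z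
      rw [hz2, pow_two] at this
      exact congrArg Subtype.val this
    have hzne : (z : X) ≠ 1 := fun e => by
      rw [show z = 1 from Subtype.ext e, orderOf_one] at hz2; omega
    have hZY := hmin Z₂ hZn (fun v hv => hv.1.1) (fun e => hzne (by rw [e] at hzZ; exact Subgroup.mem_bot.mp hzZ))
    have hYe : ∀ v ∈ Y, v * v = 1 := fun v hv => (hZY.symm ▸ hv : v ∈ Z₂).2
    have hYc : ∀ p ∈ π.ker, ∀ v ∈ Y, p * v = v * p := fun p hp v hv =>
      Subgroup.mem_centralizer_iff.mp ((hZY.symm ▸ hv : v ∈ Z₂).1.2) p hp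
    by_cases hnt : ∃ g : X, ∃ v ∈ Y, g * v ≠ v * g
    · obtain ⟨g₀, v₀, hv₀, hne₀⟩ := hnt
      have hsec : Sec π ⊥ Y :=
        ⟨bot_le, inferInstance, hYn, fun v hv => Subgroup.mem_bot.mpr (hYe v hv),
          fun p hp v hv => Subgroup.mem_bot.mpr (by rw [hYc p hp v hv]; group),
          ⟨g₀, v₀, hv₀, fun hh => hne₀ (mul_inv_eq_iff_eq_mul.mp (mul_inv_eq_one.mp (Subgroup.mem_bot.mp hh)))⟩⟩
      obtain ⟨h16, hfpf, -, -⟩ := hsec.main h.surj h.rank
      rw [Subgroup.relIndex_bot_left] at h16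
      by_cases hYF' : Y = F
      · subst hYF'
        exact h.no_double hYe hYc ⟨g₀, v₀, hv₀, hne₀⟩
      obtain ⟨π', -, -, h'⟩ := h.quotient Y hYF
      have hlt : Nat.card (X ⧸ Y) < n := by
        rw [← hn, ← Subgroup.index_eq_card, ← Subgroup.card_mul_index Y, h16]
        have : 0 < Y.index := Nat.pos_of_ne_zero Subgroup.index_ne_zero_of_finite
        omega
      have hle := ih _ hlt (X ⧸ Y) π' _ h' rfl
      rw [← Subgroup.relIndex_bot_left, ← Subgroup.relIndex_comap, MonoidHom.comap_bot, QuotientGroup.ker_mk'] at hle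
      have h1 : Y.relIndex F ≠ 1 := fun e => hYF' (le_antisymm hYF (Subgroup.relIndex_eq_one.mp e))
      have h0 : Y.relIndex F ≠ 0 := Subgroup.index_ne_zero_of_finite
      have h2 : Y.relIndex F = 2 := by omega
      -- the bottom is elementary of order thirty-two
      obtain ⟨x, -, hπ5, hπ1⟩ := h.exists_order_five
      have hexp : ∀ f ∈ F, f * f = 1 := by
        intro f hf
        by_cases hfY : f ∈ Y
        · exact hYe f hfY
        have hsq : f * f ∈ Y := by
          have := Subgroup.mul_self_mem_of_index_two (H := Y.subgroupOf F) h2 ⟨f, hf⟩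
          exact Subgroup.mem_subgroupOf.mp this
        have hv : f⁻¹ * (x * f * x⁻¹) ∈ Y := by
          have := (Subgroup.mul_mem_iff_of_index_two (H := Y.subgroupOf F) h2
            (a := (⟨f, hf⟩ : F)⁻¹) (b := ⟨x * f * x⁻¹, h.normal.conj_mem f hf x⟩)).mpr
            (iff_of_false (fun e => hfY (inv_mem_iff.mp (by simpa [Subgroup.mem_subgroupOf] using e)))
              (fun e => hfY (by
                have := hYn.conj_mem _ (Subgroup.mem_subgroupOf.mp e) x⁻¹
                simpa [mul_assoc] using this)))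
          simpa [Subgroup.mem_subgroupOf] using this
        obtain ⟨v, hv', hve⟩ : ∃ v ∈ Y, x * f * x⁻¹ = f * v := ⟨_, hv, by group⟩
        refine Subgroup.mem_bot.mp (hfpf x hπ5 hπ1 _ hsq (Subgroup.mem_bot.mpr ?_))
        rw [show x * (f * f) * x⁻¹ = (x * f * x⁻¹) * (x * f * x⁻¹) by group, hve,
          show f * v * (f * v) = f * (v * f) * v by group, ← hYc f (h.le hf) v hv',
          show f * (f * v) * v = f * f * (v * v) by group, hYe v hv', mul_one, mul_inv_cancel]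
      have hF32 : Nat.card F = 32 := by
        have h3 := Subgroup.relIndex_mul_relIndex ⊥ Y F bot_le hYF
        rw [Subgroup.relIndex_bot_left, Subgroup.relIndex_bot_left, h16, h2] at h3
        omega
      have h4 := CfsgLib.RankFour.relIndex_le_of_sq_mem h.rank (X := F) (N := ⊥)
        (fun y _ n hn => by rw [Subgroup.mem_bot] at hn ⊢; rw [hn]; group)
        (fun f hf => Subgroup.mem_bot.mpr (hexp f hf))
      rw [Subgroup.relIndex_bot_left, hF32] at h4
      norm_num at h4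
    · push Not at hnt
      have hY2 : Nat.card Y = 2 := by
        have hZ' : (Subgroup.zpowers (z : X)).Normal := ⟨fun n hn g => by
          rw [hnt g n ((Subgroup.zpowers_le.mpr (show (z : X) ∈ Y from hzY)) hn), mul_inv_cancel_right]; exact hn⟩
        rw [← hmin _ hZ' (Subgroup.zpowers_le.mpr (show (z : X) ∈ Y from hzY)) (by simpa using hzne), Nat.card_zpowers,
          Subgroup.orderOf_coe, hz2]
      obtain ⟨π', -, -, h'⟩ := h.quotient Y hYF
      have hlt : Nat.card (X ⧸ Y) < n := by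
        rw [← hn, ← Subgroup.index_eq_card, ← Subgroup.card_mul_index Y, hY2]
        have : 0 < Y.index := Nat.pos_of_ne_zero Subgroup.index_ne_zero_of_finite
        omega
      have hle := ih _ hlt (X ⧸ Y) π' _ h' rfl
      rw [← Subgroup.relIndex_bot_left, ← Subgroup.relIndex_comap, MonoidHom.comap_bot, QuotientGroup.ker_mk'] at hle
      have h3 := Subgroup.relIndex_mul_relIndex ⊥ Y F bot_le hYF
      rw [Subgroup.relIndex_bot_left, Subgroup.relIndex_bot_left, hY2] at h3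
      have hF4 : Nat.card F = 4 := by
        have h0 : Y.relIndex F ≠ 0 := Subgroup.index_ne_zero_of_finite
        have : Y.relIndex F = 1 ∨ Y.relIndex F = 2 := by omega
        rcases this with e | e <;> rw [e] at h3 <;> omega
      exact h.not_four hF4 hYF hY2

end CfsgLib.RankFour.AltFiveRadical

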