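import Cfsg.Agent.Lib.RankFour.AltFiveModule
import Cfsg.Agent.Lib.RankFour.Sectional

/-!
Sections of a normal 2-subgroup on which a quotient isomorphic to the alternating group of degree five acts.
-/

set_option autoImplicit false
set_option linter.style.haveILetI false
set_option linter.unusedSectionVars false

namespace CfsgLib.RankFour.AltFiveSection

open CfsgLib.RankFour.AltFiveModule CfsgLib.AltEight.Sixteen

variable {X : Type*} [Group X] [Finite X] (π : X →* A5)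

/-- A section `B / A` of exponent two, centralised by the kernel, with non-trivial action. -/
structure Sec (A B : Subgroup X) : Prop where
  le : A ≤ B
  normA : A.Normal
  normB : B.Normal
  sq : ∀ b ∈ B, b * b ∈ A
  triv : ∀ p ∈ π.ker, ∀ b ∈ B, p * b * p⁻¹ * b⁻¹ ∈ A
  nontriv : ∃ x : X, ∃ b ∈ B, x * b * x⁻¹ * b⁻¹ ∉ A

variable {π} {A B : Subgroup X}

theorem Sec.main (hπ : Function.Surjective π) (hr : Cfsg.SectionalPRankLE 2 4 X) (h : Sec π A B) :
    A.relIndex B = 16 ∧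
    (∀ x : X, π x ^ 5 = 1 → π x ≠ 1 → ∀ b ∈ B, x * b * x⁻¹ * b⁻¹ ∈ A → b ∈ A) ∧
    (∀ s : X, π s = e1 → ∀ C : Subgroup X, (∀ c, c ∈ C ↔ c ∈ B ∧ s * c * s⁻¹ * c⁻¹ ∈ A) →
      A.relIndex C = 4 ∧ ∀ c ∈ C, ∃ b ∈ B, c⁻¹ * (b * (s * b * s⁻¹)) ∈ A) ∧
    (∀ S₁ S₂ : Set X, S₁ ⊆ B → S₂ ⊆ B → (∀ x : X, ∀ u ∈ S₁, x * u * x⁻¹ ∈ S₁) →
      (∀ x : X, ∀ u ∈ S₂, x * u * x⁻¹ ∈ S₂) → (∀ u ∈ S₁, ∀ a ∈ A, u * a ∈ S₁) →
      (∀ u ∈ S₂, ∀ a ∈ A, u * a ∈ S₂) → (1 : X) ∈ S₁ → (1 : X) ∈ S₂ →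
      S₁.ncard = 6 * Nat.card A → S₂.ncard = 6 * Nat.card A → S₁ = S₂) := by
  classical
  haveI := h.normA
  haveI := h.normB
  let N : Subgroup B := A.subgroupOf B
  have hmem : ∀ {b b' : B}, ((b : B ⧸ N) = (b' : B ⧸ N)) ↔ (b : X)⁻¹ * b' ∈ A := fun {b b'} => by
    rw [QuotientGroup.eq, Subgroup.mem_subgroupOf]; rfl
  have hone : ∀ {b : B}, ((b : B ⧸ N) = 1) ↔ (b : X) ∈ A := fun {b} => by
    rw [QuotientGroup.eq_one_iff]; exact Subgroup.mem_subgroupOf
  have h2 : ∀ v : B ⧸ N, v * v = 1 := by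
    intro v
    induction v using QuotientGroup.induction_on with
    | H b => rw [← QuotientGroup.mk_mul, hone]; exact h.sq b b.2
  have hinv : ∀ v : B ⧸ N, v⁻¹ = v := fun v => inv_eq_of_mul_eq_one_left (h2 v)
  letI : CommGroup (B ⧸ N) :=
    { (inferInstance : Group (B ⧸ N)) with
      mul_comm := fun v w => by rw [← hinv (v * w), mul_inv_rev, hinv, hinv] }
  have hcmap : ∀ x : X, N.map (MulAut.conjNormal x : B ≃* B).toMonoidHom = N := by
    intro x
    ext b
    simp only [Subgroup.mem_map, MulEquiv.coe_toMonoidHom]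
    constructor
    · rintro ⟨c, hc, rfl⟩
      rw [Subgroup.mem_subgroupOf] at hc ⊢
      rw [MulAut.conjNormal_apply]
      exact h.normA.conj_mem _ hc x
    · intro hb
      refine ⟨(MulAut.conjNormal x : B ≃* B).symm b, ?_, MulEquiv.apply_symm_apply _ _⟩
      rw [Subgroup.mem_subgroupOf] at hb ⊢
      rw [MulAut.conjNormal_symm_apply]
      simpa using h.normA.conj_mem _ hb x⁻¹
  let α : X →* MulAut (B ⧸ N) :=
    { toFun := fun x => QuotientGroup.congr N N (MulAut.conjNormal x) (hcmap x)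
      map_one' := by
        ext v; induction v using QuotientGroup.induction_on with
        | H y => simp
      map_mul' := fun a b => by
        ext v; induction v using QuotientGroup.induction_on with
        | H y => simp only [map_mul, MulAut.mul_apply]; rfl }
  have hα : ∀ (x : X) (b : B), α x (b : B ⧸ N) = ((MulAut.conjNormal x b : B) : B ⧸ N) := fun _ _ => rfl
  have hcomm : ∀ (x : X) (b : B), (α x (b : B ⧸ N) = (b : B ⧸ N)) ↔ x * b * x⁻¹ * (b : X)⁻¹ ∈ A := by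
    intro x b
    rw [hα, hmem, MulAut.conjNormal_apply]
    have e : (x * b * x⁻¹)⁻¹ * (b : X) = (x * b * x⁻¹)⁻¹ * (x * b * x⁻¹ * (b : X)⁻¹)⁻¹ * (x * b * x⁻¹) := by group
    rw [e]
    constructor
    · intro hh
      have := h.normA.conj_mem _ hh (x * b * x⁻¹)
      rw [← inv_mem_iff]
      simpa [mul_assoc] using this
    · intro hh
      simpa using h.normA.conj_mem _ (inv_mem hh) (x * b * x⁻¹)⁻¹
  have hker : π.ker ≤ α.ker := by
    intro p hp
    refine MonoidHom.mem_ker.mpr (MulEquiv.ext fun v => ?_)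
    induction v using QuotientGroup.induction_on with
    | H b => exact (hcomm p b).mpr (h.triv p hp b b.2)
  let β : A5 →* MulAut (B ⧸ N) := π.liftOfSurjective hπ ⟨α, hker⟩
  have hβ : ∀ x, β (π x) = α x := fun x =>
    MonoidHom.liftOfRightInverse_comp_apply π _ _ ⟨α, hker⟩ x
  have hβ1 : β ≠ 1 := by
    intro h1
    obtain ⟨x, b, hb, hxb⟩ := h.nontriv
    refine hxb ((hcomm x ⟨b, hb⟩).mp ?_)
    rw [← hβ, h1]; rfl
  have hle : Nat.card (B ⧸ N) ≤ 16 := by
    rw [← Subgroup.index_eq_card]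
    exact CfsgLib.RankFour.relIndex_le_of_sq_mem hr (fun x _ n hn => h.normA.conj_mem n hn x) h.sq
  refine ⟨?_, ?_, ?_, ?_⟩
  · show N.index = 16
    rw [Subgroup.index_eq_card]; exact card_eq h2 hle β hβ1
  · intro x h5 h1 b hb hxb
    have : ((⟨b, hb⟩ : B) : B ⧸ N) ∈ fx (β (π x)) :=
      mem_fx.mpr (by rw [hβ]; exact (hcomm x ⟨b, hb⟩).mpr hxb)
    rw [fx_order_five h2 hle β hβ1 h5 h1, Subgroup.mem_bot] at this
    exact hone.mp this
  · intro s hs C hC
    obtain ⟨k1, -, k3⟩ := involution h2 hle β hβ1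
    have hCB : C ≤ B := fun c hc => ((hC c).mp hc).1
    have hpre : C.subgroupOf B = (fx (β e1)).comap (QuotientGroup.mk' N) := by
      ext b
      rw [Subgroup.mem_subgroupOf, Subgroup.mem_comap, mem_fx, ← hs, hβ]
      exact ⟨fun hb => (hcomm s b).mpr ((hC b).mp hb).2, fun hb => (hC b).mpr ⟨b.2, (hcomm s b).mp hb⟩⟩
    refine ⟨?_, fun c hc => ?_⟩
    · rw [← Subgroup.relIndex_subgroupOf hCB, hpre]
      show N.relIndex _ = 4
      have h1 := Subgroup.card_mul_index (N.subgroupOf ((fx (β e1)).comap (QuotientGroup.mk' N)))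
      have h2' : Nat.card ((fx (β e1)).comap (QuotientGroup.mk' N)) = Nat.card N * 4 := by
        rw [← k1]
        exact Nat.card_congr ((QuotientGroup.preimageMkEquivSubgroupProdSet N (fx (β e1) : Set (B ⧸ N)))) |>.trans
          (Nat.card_prod _ _)
      have hNle : N ≤ (fx (β e1)).comap (QuotientGroup.mk' N) := fun b hb => by
        rw [Subgroup.mem_comap]
        show QuotientGroup.mk b ∈ _
        rw [(QuotientGroup.eq_one_iff b).mpr hb]
        exact one_mem _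
      rw [Nat.card_congr (Subgroup.subgroupOfEquivOfLe hNle).toEquiv, h2'] at h1
      exact Nat.eq_of_mul_eq_mul_left Nat.card_pos h1
    · have hc' : ((⟨c, hCB hc⟩ : B) : B ⧸ N) ∈ (δ (β e1)).range := by
        rw [k3, mem_fx, ← hs, hβ]
        exact (hcomm s _).mpr ((hC c).mp hc).2
      obtain ⟨v, hv⟩ := hc'
      induction v using QuotientGroup.induction_on with
      | H b =>
        refine ⟨b, b.2, ?_⟩
        have hv' : (b : B ⧸ N) * β e1 (b : B ⧸ N) = ((⟨c, hCB hc⟩ : B) : B ⧸ N) := hv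
        rw [← hs, hβ, hα, ← QuotientGroup.mk_mul] at hv'
        exact hmem.mp hv'.symm
  · intro S₁ S₂ hs1 hs2 i1 i2 m1 m2 o1 o2 c1 c2
    have key : ∀ S : Set X, S ⊆ B → (∀ x : X, ∀ u ∈ S, x * u * x⁻¹ ∈ S) → (∀ u ∈ S, ∀ a ∈ A, u * a ∈ S) →
        (1 : X) ∈ S → S.ncard = 6 * Nat.card A →
        ∃ O : Set (B ⧸ N), Inv β O ∧ O.ncard = 5 ∧ (1 : B ⧸ N) ∉ O ∧
          ∀ b : B, (b : X) ∈ S ↔ (b : B ⧸ N) ∈ insert 1 O := by
      intro S hS iS mS oS cS
      let T : Set (B ⧸ N) := QuotientGroup.mk '' {b : B | (b : X) ∈ S}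
      have hT : ∀ b : B, (b : X) ∈ S ↔ (b : B ⧸ N) ∈ T := by
        intro b
        refine ⟨fun hb => ⟨b, hb, rfl⟩, ?_⟩
        rintro ⟨b', hb', he⟩
        have := mS _ hb' _ (hmem.mp he)
        rwa [mul_inv_cancel_left] at this
      have hpre : (QuotientGroup.mk : B → B ⧸ N) ⁻¹' T = {b : B | (b : X) ∈ S} :=
        Set.ext fun b => (hT b).symm
      have hcard : T.ncard = 6 := by
        have h1 := Nat.card_congr (QuotientGroup.preimageMkEquivSubgroupProdSet N T)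
        rw [Nat.card_prod, hpre, Nat.card_coe_set_eq, Nat.card_coe_set_eq,
          Nat.card_congr (Subgroup.subgroupOfEquivOfLe h.le).toEquiv] at h1
        have h3 : {b : B | (b : X) ∈ S}.ncard = S.ncard := by
          rw [← Set.ncard_image_of_injective _ Subtype.val_injective]
          congr 1
          ext u
          exact ⟨fun ⟨b, hb, hu⟩ => hu ▸ hb, fun hu => ⟨⟨u, hS hu⟩, hu, rfl⟩⟩
        rw [h3, cS] at h1
        exact (Nat.eq_of_mul_eq_mul_left Nat.card_pos (by rw [← h1, mul_comm])).symm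
      have h1T : (1 : B ⧸ N) ∈ T := (hT 1).mp oS
      refine ⟨T \ {1}, ?_, ?_, fun hh => hh.2 rfl, fun b => ?_⟩
      · intro g v hv
        obtain ⟨x, rfl⟩ := hπ g
        obtain ⟨b, hb, rfl⟩ := hv.1
        refine ⟨?_, fun hh => hv.2 ?_⟩
        · rw [hβ, hα]
          exact (hT _).mp (by rw [MulAut.conjNormal_apply]; exact iS x b hb)
        · rw [Set.mem_singleton_iff] at hh ⊢
          exact (β (π x)).injective (hh.trans (map_one _).symm)
      · rw [Set.ncard_sdiff_singleton_of_mem h1T, hcard]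
      · rw [Set.insert_diff_singleton, Set.insert_eq_of_mem h1T]
        exact hT b
    obtain ⟨O₁, a1, b1, n1, t1⟩ := key S₁ hs1 i1 m1 o1 c1
    obtain ⟨O₂, a2, b2, n2, t2⟩ := key S₂ hs2 i2 m2 o2 c2
    have hO := five_set_unique h2 hle β hβ1 a1 a2 b1 b2 n1 n2
    ext u
    constructor
    · intro hu; exact (t2 ⟨u, hs1 hu⟩).mpr (hO ▸ (t1 ⟨u, hs1 hu⟩).mp hu)
    · intro hu; exact (t1 ⟨u, hs2 hu⟩).mpr (hO ▸ (t2 ⟨u, hs2 hu⟩).mp hu)

/-- A normal subgroup strictly above the bottom of a section is at least its top. -/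
theorem Sec.eq_top (hπ : Function.Surjective π) (hr : Cfsg.SectionalPRankLE 2 4 X) (h : Sec π A B)
    {D : Subgroup X} [D.Normal] (hAD : A ≤ D) (hDB : D ≤ B) (hne : D ≠ A) : D = B := by
  obtain ⟨h16, h5, -, -⟩ := h.main hπ hr
  obtain ⟨x, hx⟩ := hπ (e1 * e2)
  obtain ⟨d, hd, hdA⟩ := Set.exists_of_ssubset (SetLike.coe_ssubset_coe.mpr (lt_of_le_of_ne hAD (Ne.symm hne)))
  have hD : Sec π A D :=
    ⟨hAD, h.normA, inferInstance, fun b hb => h.sq b (hDB hb), fun p hp b hb => h.triv p hp b (hDB hb),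
      ⟨x, d, hd, fun hh => hdA (h5 x (hx ▸ e12_five) (hx ▸ e12_ne) d (hDB hd) hh)⟩⟩
  have h16' := (hD.main hπ hr).1
  refine le_antisymm hDB (Subgroup.relIndex_eq_one.mp ?_)
  have := Subgroup.relIndex_mul_relIndex A D B hAD hDB
  rw [h16, h16'] at this
  omega

end CfsgLib.RankFour.AltFiveSection
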