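import Cfsg.Agent.Lib.Extraspecial.OuterIso
import Cfsg.Agent.Lib.StdForm.OrderEight

/-!
An extraspecial group of order 32 of minus type is a central product of a quaternion and a dihedral group.
-/

set_option autoImplicit false

namespace CfsgLib.RankFour.QuatDihedral

open CfsgLib.F2Quad (Vec pol qw)
open scoped commutatorElement

set_option synthInstance.maxSize 4000 in
set_option synthInstance.maxHeartbeats 200000 in
theorem exists_frame : ∀ w : Vec 2, Cfsg.quadFormPlus 2 (ZMod 2) w = 1 →
    ∃ a : Vec 2, qw 2 w a = 1 ∧ ∃ b : Vec 2, qw 2 w b = 1 ∧ pol 2 a b = 1 ∧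
      ∃ c : Vec 2, qw 2 w c = 0 ∧ pol 2 a c = 0 ∧ pol 2 b c = 0 ∧
      ∃ d : Vec 2, qw 2 w d = 0 ∧ pol 2 c d = 1 ∧ pol 2 a d = 0 ∧ pol 2 b d = 0 ∧
        (∀ v : Vec 2, ∃ s ∈ [0, a, b, a + b], v + s ∈ [0, c, d, c + d]) ∧
        (∀ v ∈ [0, a, b, a + b], v ∈ [0, c, d, c + d] → v = 0) := by
  unfold qw pol Cfsg.quadFormPlus
  decide +kernel

theorem dihedral_four_three : ∃ x y z : DihedralGroup 4,
    x * x = 1 ∧ y * y = 1 ∧ z * z = 1 ∧ x ≠ y ∧ x ≠ z ∧ y ≠ z := by decide

theorem quaternion_sq : ∀ x y z : QuaternionGroup 2,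
    x * x = 1 → y * y = 1 → z * z = 1 → x ≠ y → x ≠ z → y ≠ z → False := by decide

variable {E : Type*} [Group E] [Finite E]

theorem central_product (C : CfsgLib.Extraspecial.Coords E 2) {w : Vec 2}
    (hw : Cfsg.quadFormPlus 2 (ZMod 2) w = 1) (hform : C.form = qw 2 w) :
    ∃ A B : Subgroup E, Nonempty (↥A ≃* QuaternionGroup 2) ∧ Nonempty (↥B ≃* DihedralGroup 4) ∧
      (∀ a ∈ A, ∀ b ∈ B, a * b = b * a) ∧ A ⊔ B = ⊤ ∧ A ⊓ B = Subgroup.center E := by
  classical
  obtain ⟨a, ha, b, hb, hab, c, hc, hac, hbc, d, hd, hcd, had, hbd, hspan, hmeet⟩ := exists_frame w hw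
  have h2 : ∀ v : Vec 2, v + v = 0 := fun v => funext fun i => CharTwo.add_self_eq_zero _
  let plane : ∀ u v : Vec 2, Subgroup E := fun u v =>
    { carrier := {x | C.proj x ∈ [0, u, v, u + v]}
      one_mem' := by simp [C.proj_one]
      mul_mem' := fun {x y} hx hy => by
        simp only [Set.mem_setOf_eq, List.mem_cons, List.not_mem_nil, or_false] at hx hy ⊢
        rw [C.proj_mul]
        rcases hx with e | e | e | e <;> rcases hy with e' | e' | e' | e' <;> rw [e, e']
        all_goals
          first
            | (left; simp [h2]; done)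
            | (right; left; simp [add_assoc, h2, add_comm u v, add_left_comm u v]; done)
            | (right; left; funext i; simp only [Pi.add_apply, Pi.zero_apply]; grind)
            | (right; right; left; simp [add_assoc, h2, add_comm u v, add_left_comm u v]; done)
            | (right; right; left; funext i; simp only [Pi.add_apply, Pi.zero_apply]; grind)
            | (right; right; right; simp [h2, add_comm u v]; done)
      inv_mem' := fun {x} hx => by
        simp only [Set.mem_setOf_eq] at hx ⊢
        rwa [C.proj_inv] }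
  have hmemp : ∀ u v x, x ∈ plane u v ↔ C.proj x ∈ [0, u, v, u + v] := fun _ _ _ => Iff.rfl
  have hcard : ∀ u v, pol 2 u v = 1 → Nat.card (plane u v) = 8 := by
    intro u v huv
    have hz : pol 2 (0 : Vec 2) v = 0 := by simp [pol]
    have hu0 : u ≠ 0 := fun e => by rw [e, hz] at huv; exact zero_ne_one huv
    have hv0 : v ≠ 0 := fun e => by
      rw [e, CfsgLib.F2Quad.pol_comm, (by simp [pol] : pol 2 (0 : Vec 2) u = 0)] at huv
      exact zero_ne_one huv
    have hne : u ≠ v := fun e => by rw [e, CfsgLib.F2Quad.pol_self] at huv; exact zero_ne_one huv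
    let P : E →* Multiplicative (Vec 2) :=
      MonoidHom.mk' (fun x => Multiplicative.ofAdd (C.proj x)) fun x y => by rw [← ofAdd_add, C.proj_mul]
    have hker : P.ker = Subgroup.center E := by
      ext x; rw [MonoidHom.mem_ker]; exact ofAdd_eq_one.trans (C.proj_eq_zero x)
    let S : Finset (Vec 2) := {0, u, v, u + v}
    have hS : S.card = 4 := by
      simp only [S]
      rw [Finset.card_insert_of_notMem, Finset.card_insert_of_notMem, Finset.card_insert_of_notMem, Finset.card_singleton]
      · simp only [Finset.mem_singleton]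
        intro e
        exact hu0 (by simpa using e)
      · simp only [Finset.mem_insert, Finset.mem_singleton, not_or]
        refine ⟨hne, fun e => hv0 ?_⟩
        simpa using e
      · simp only [Finset.mem_insert, Finset.mem_singleton, not_or]
        refine ⟨Ne.symm hu0, Ne.symm hv0, fun e => hne ?_⟩
        have := congrArg (· + v) e
        simp only [zero_add, add_assoc, h2, add_zero] at this
        exact this.symm
    have h1 : (plane u v : Set E).ncard = ∑ s ∈ S, ({x | C.proj x = s} : Set E).ncard := by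
      have e1 : (plane u v : Set E).toFinite.toFinset = S.biUnion fun s => (Set.toFinite {x | C.proj x = s}).toFinset := by
        ext x
        simp [S, hmemp]
      rw [Set.ncard_eq_toFinset_card _ (Set.toFinite _), e1, Finset.card_biUnion]
      · exact Finset.sum_congr rfl fun s _ => (Set.ncard_eq_toFinset_card _ (Set.toFinite _)).symm
      · intro s _ t _ hst
        simp only [Function.onFun, Finset.disjoint_left, Set.Finite.mem_toFinset, Set.mem_setOf_eq]
        exact fun x e e' => hst (e.symm.trans e')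
    have hfib : ∀ s, ({x | C.proj x = s} : Set E).ncard = 2 := by
      intro s
      obtain ⟨x, hx⟩ := C.proj_surj s
      rw [← Nat.card_coe_set_eq]
      refine Eq.trans ?_ C.centre_card
      rw [← hker]
      exact Nat.card_congr ((Equiv.subtypeEquivRight fun y => by
        show C.proj y = s ↔ P y = P x
        rw [← hx]; exact Multiplicative.ofAdd.apply_eq_iff_eq.symm).trans (P.fiberEquivKer x))
    rw [← Nat.card_coe_set_eq] at h1
    exact h1.trans (by rw [Finset.sum_congr rfl fun s _ => hfib s, Finset.sum_const, hS]; rfl)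
  have hclass : ∀ u v, pol 2 u v = 1 →
      Nonempty (↥(plane u v) ≃* DihedralGroup 4) ∨ Nonempty (↥(plane u v) ≃* QuaternionGroup 2) := by
    intro u v huv
    obtain ⟨x, hx⟩ := C.proj_surj u
    obtain ⟨y, hy⟩ := C.proj_surj v
    refine CfsgLib.StdForm.dihedral_or_quaternion_of_card_eight (hcard u v huv)
      (g := ⟨x, by rw [hmemp, hx]; simp⟩) (h := ⟨y, by rw [hmemp, hy]; simp⟩) fun e => ?_
    have h1 : ⁅x, y⁆ = 1 := commutatorElement_eq_one_iff_mul_comm.mpr (congrArg Subtype.val e)
    rw [C.comm_eq_one, hx, hy, huv] at h1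
    exact one_ne_zero h1
  have hcentre : ∀ u v, Subgroup.center E ≤ plane u v := fun u v x hx => by
    rw [hmemp, (C.proj_eq_zero x).mpr hx]; simp
  have hq0 : ∀ x : E, x * x = 1 → qw 2 w (C.proj x) = 0 := fun x hx => by
    rw [← hform]; exact (C.sq_eq_one x).mp hx
  have hA : Nonempty (↥(plane a b) ≃* QuaternionGroup 2) := by
    refine (hclass a b hab).resolve_left fun ⟨e⟩ => ?_
    obtain ⟨x, y, z, h1, h2', h3, n1, n2, n3⟩ := dihedral_four_three
    have key : ∀ g : plane a b, g * g = 1 → (g : E) ∈ Subgroup.center E := by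
      intro g hg
      rw [← C.proj_eq_zero]
      have hq := hq0 g (congrArg Subtype.val hg)
      have hm := g.2
      simp only [hmemp, List.mem_cons, List.not_mem_nil, or_false] at hm
      rcases hm with e' | e' | e' | e'
      · exact e'
      · rw [e', ha] at hq; exact absurd hq one_ne_zero
      · rw [e', hb] at hq; exact absurd hq one_ne_zero
      · have hab' : qw 2 w (a + b) = 1 := by
          rw [CfsgLib.F2Quad.isQF_qw 2 w a b, CfsgLib.F2Quad.pol_eq, ha, hb, hab]; decide
        rw [e', hab'] at hq; exact absurd hq one_ne_zero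
    have hm : ∀ g : DihedralGroup 4, g * g = 1 → ((e.symm g : plane a b) : E) ∈ Subgroup.center E :=
      fun g hg => key _ (by rw [← map_mul, hg, map_one])
    obtain ⟨p, q, -, huv⟩ := Nat.card_eq_two_iff.mp C.centre_card
    have hpq : ∀ g : DihedralGroup 4, g * g = 1 →
        ((e.symm g : plane a b) : E) = (p : E) ∨ ((e.symm g : plane a b) : E) = (q : E) := fun g hg => by
      have := huv ▸ Set.mem_univ (⟨_, hm g hg⟩ : Subgroup.center E)
      rcases this with h' | h'
      · exact Or.inl (congrArg Subtype.val h')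
      · exact Or.inr (congrArg Subtype.val (Set.mem_singleton_iff.mp h'))
    have inj : ∀ {g g' : DihedralGroup 4}, ((e.symm g : plane a b) : E) = (e.symm g' : plane a b) → g = g' :=
      fun h => e.symm.injective (Subtype.ext h)
    rcases hpq x h1 with e1 | e1 <;> rcases hpq y h2' with e2 | e2 <;> rcases hpq z h3 with e3 | e3 <;>
      first
        | exact n1 (inj (e1.trans e2.symm))
        | exact n2 (inj (e1.trans e3.symm))
        | exact n3 (inj (e2.trans e3.symm))
  have hB : Nonempty (↥(plane c d) ≃* DihedralGroup 4) := by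
    refine (hclass c d hcd).resolve_right fun ⟨e⟩ => ?_
    obtain ⟨p, q, hpq, huv⟩ := Nat.card_eq_two_iff.mp C.centre_card
    obtain ⟨x, hx⟩ := C.proj_surj c
    have hx2 : x * x = 1 := (C.sq_eq_one x).mpr (by rw [hform, hx, hc])
    have hxm : x ∈ plane c d := by rw [hmemp, hx]; simp
    have hsq : ∀ g : Subgroup.center E, (g : E) * g = 1 := fun g => by
      have := pow_card_eq_one' (x := g)
      rw [C.centre_card, pow_two] at this
      exact congrArg Subtype.val this
    have hne : ∀ g : Subgroup.center E, (g : E) ≠ x := fun g e' => by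
      have h0 := (C.proj_eq_zero g).mpr g.2
      rw [e', hx] at h0
      rw [h0, (by simp [pol] : pol 2 (0 : Vec 2) d = 0)] at hcd
      exact zero_ne_one hcd
    exact quaternion_sq (e ⟨p, hcentre c d p.2⟩) (e ⟨q, hcentre c d q.2⟩) (e ⟨x, hxm⟩)
      (by rw [← map_mul, ← map_one e]; exact congrArg e (Subtype.ext (hsq p)))
      (by rw [← map_mul, ← map_one e]; exact congrArg e (Subtype.ext (hsq q)))
      (by rw [← map_mul, ← map_one e]; exact congrArg e (Subtype.ext hx2))
      (fun h => hpq (Subtype.ext (congrArg (fun t => (t.1 : E)) (e.injective h))))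
      (fun h => hne p (congrArg Subtype.val (e.injective h)))
      (fun h => hne q (congrArg Subtype.val (e.injective h)))
  refine ⟨plane a b, plane c d, hA, hB, fun g hg g' hg' => ?_, ?_, ?_⟩
  · rw [← commutatorElement_eq_one_iff_mul_comm, C.comm_eq_one]
    simp only [hmemp, List.mem_cons, List.not_mem_nil, or_false] at hg hg'
    have hz : ∀ t, pol 2 0 t = 0 := fun t => by simp [pol]
    have hz' : ∀ t, pol 2 t 0 = 0 := fun t => by simp [pol]
    have hadd : ∀ u t t', pol 2 u (t + t') = pol 2 u t + pol 2 u t' := fun u t t' => by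
      rw [CfsgLib.F2Quad.pol_comm 2 u, CfsgLib.F2Quad.pol_add_left, CfsgLib.F2Quad.pol_comm 2 t,
        CfsgLib.F2Quad.pol_comm 2 t']
    rcases hg with e | e | e | e <;> rcases hg' with e' | e' | e' | e' <;> rw [e, e'] <;>
      simp [hadd, hz, hz', CfsgLib.F2Quad.pol_add_left, hac, hbc, had, hbd]
  · rw [eq_top_iff]
    intro x _
    obtain ⟨s, hs, hsum⟩ := hspan (C.proj x)
    obtain ⟨y, hy⟩ := C.proj_surj s
    rw [← mul_inv_cancel_left y x]
    refine mul_mem (Subgroup.mem_sup_left ((hmemp a b y).mpr (hy ▸ hs))) (Subgroup.mem_sup_right ?_)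
    rw [hmemp, C.proj_mul, C.proj_inv, hy, add_comm s]
    exact hsum
  · refine le_antisymm (fun x hx => ?_) (le_inf (hcentre a b) (hcentre c d))
    rw [← C.proj_eq_zero]
    exact hmeet _ hx.1 hx.2

end CfsgLib.RankFour.QuatDihedral
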