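import Cfsg.Agent.Lib.RankFour.WreathModel
import Cfsg.Agent.Lib.RankFour.Sectional

/-!
`D₈ ≀ C₂` inside a 2-group of sectional rank at most four.
-/

set_option autoImplicit false

namespace CfsgLib.RankFour

open DihedralGroup

/-- The two four-groups of `D₈`. -/
def isV : Bool → D8 → Bool
  | _, r i => i == 0 || i == 2
  | true, sr i => i == 0 || i == 2
  | false, sr i => i == 1 || i == 3

/-- The centre of `D₈`. -/
def isZ (g : D8) : Bool := g == 1 || g == r 2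

theorem d8_invol : ∀ g h : D8, g * g = 1 → h * h = 1 → g * h = h * g →
    (isV true g ∧ isV true h) ∨ (isV false g ∧ isV false h) := by decide

theorem d8_v_group : ∀ b : Bool, ∀ g h : D8, isV b g → isV b h →
    isV b (g * h) ∧ g * g = 1 ∧ g * h = h * g := by decide

theorem d8_v_normal : ∀ b : Bool, ∀ g h : D8, isV b h → isV b (g * h * g⁻¹) := by decide

theorem d8_split : ∀ g : D8, ∃ a b : D8, isV true a ∧ isV false b ∧ g = a * b := by decide

theorem d8_center : ∀ g : D8, (∀ h, h * g = g * h) → g = 1 ∨ g = r 2 := by decide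

theorem d8_sq : ∀ g : D8, isZ (g * g) := by decide

theorem d8_comm : ∀ g h : D8, isZ (g * h * g⁻¹ * h⁻¹) := by decide

theorem d8_z : ∀ g : D8, isZ g → (g = 1 ∨ g = r 2) ∧ g * g = 1 ∧ ∀ h, h * g = g * h := by decide

theorem d8_z_comm : sr 0 * sr 1 * (sr 0)⁻¹ * (sr 1)⁻¹ = (r 2 : D8) := by decide

theorem d8_vlist : ∀ g : D8, (isV true g → g ∈ [1, r 2, sr 0, sr 2]) ∧
    (isV false g → g ∈ [1, r 2, sr 1, sr 3]) := by decide

theorem d8_images_list : ∀ α ∈ [1, r 2, sr 0, sr 2], ∀ β ∈ [1, r 2, sr 0, sr 2],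
    ∀ γ ∈ [(1 : D8), r 2, sr 1, sr 3], ∀ δ ∈ [(1 : D8), r 2, sr 1, sr 3],
    (α : D8) * δ = δ * α → β * γ = γ * β →
    ¬ ((α * γ) * (α * γ) = 1 ∧ (β * δ) * (β * δ) = 1) →
    (isZ ((sr 0)⁻¹ * α) ∧ isZ ((sr 1)⁻¹ * γ) ∧ isZ β ∧ isZ δ) ∨
    (isZ ((sr 0)⁻¹ * β) ∧ isZ ((sr 1)⁻¹ * δ) ∧ isZ α ∧ isZ γ) := by decide

theorem d8_induction {p : D8 → Prop} (h1 : p 1) (ha : p (sr 0)) (hb : p (sr 1))
    (hm : ∀ x y, p x → p y → p (x * y)) : ∀ g, p g := by
  have hr1 : p (r 1) := by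
    rw [show (r 1 : D8) = sr 0 * sr 1 by decide]; exact hm _ _ ha hb
  have hr2 : p (r 2) := by rw [show (r 2 : D8) = r 1 * r 1 by decide]; exact hm _ _ hr1 hr1
  have hr3 : p (r 3) := by rw [show (r 3 : D8) = r 2 * r 1 by decide]; exact hm _ _ hr2 hr1
  have hs2 : p (sr 2) := by rw [show (sr 2 : D8) = sr 0 * r 2 by decide]; exact hm _ _ ha hr2
  have hs3 : p (sr 3) := by rw [show (sr 3 : D8) = sr 0 * r 3 by decide]; exact hm _ _ ha hr3
  rintro (i | i) <;> fin_cases i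
  exacts [h1, hr1, hr2, hr3, ha, hb, hs2, hs3]

variable {S : Type*} [Group S] {P : Subgroup S} (d : WData P)

/-- `f (Vᵢ × Vᵢ)`. -/
def WData.vSub (b : Bool) : Subgroup S :=
  Subgroup.map d.f
    { carrier := {x | isV b x.1 ∧ isV b x.2}
      one_mem' := by cases b <;> decide
      mul_mem' := fun {x y} hx hy => ⟨(d8_v_group b _ _ hx.1 hy.1).1, (d8_v_group b _ _ hx.2 hy.2).1⟩
      inv_mem' := fun {x} hx => by
        constructor
        · show isV b x.1⁻¹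
          rw [inv_eq_of_mul_eq_one_left (d8_v_group b _ _ hx.1 hx.1).2.1]; exact hx.1
        · show isV b x.2⁻¹
          rw [inv_eq_of_mul_eq_one_left (d8_v_group b _ _ hx.2 hx.2).2.1]; exact hx.2 }

theorem WData.mem_vSub {b : Bool} {y : D8 × D8} : d.f y ∈ d.vSub b ↔ isV b y.1 ∧ isV b y.2 := by
  constructor
  · rintro ⟨x, hx, h⟩
    obtain rfl := d.finj h
    exact hx
  · exact fun h => ⟨y, h, rfl⟩

theorem WData.vSub_le (b : Bool) : d.vSub b ≤ P := by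
  rintro _ ⟨x, -, rfl⟩
  exact d.fmem x

theorem WData.sf (y : D8 × D8) : d.s * d.f y = d.f (y.2, y.1) * d.s := by
  rw [← d.sconj y.1 y.2, inv_mul_cancel_right]

theorem WData.vSub_normal (b : Bool) : ∀ g ∈ P, ∀ v ∈ d.vSub b, g * v * g⁻¹ ∈ d.vSub b := by
  have hbase : ∀ y, ∀ v ∈ d.vSub b, d.f y * v * (d.f y)⁻¹ ∈ d.vSub b := by
    rintro y _ ⟨x, hx, rfl⟩
    rw [← map_inv, ← map_mul, ← map_mul, d.mem_vSub]
    exact ⟨d8_v_normal b _ _ hx.1, d8_v_normal b _ _ hx.2⟩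
  have hs : ∀ v ∈ d.vSub b, d.s * v * d.s⁻¹ ∈ d.vSub b := by
    rintro _ ⟨x, hx, rfl⟩
    rw [show d.f x = d.f (x.1, x.2) from rfl, d.sconj, d.mem_vSub]
    exact ⟨hx.2, hx.1⟩
  intro g hg v hv
  obtain ⟨y, rfl | rfl⟩ := d.cover g hg
  · exact hbase y v hv
  · rw [show d.f y * d.s * v * (d.f y * d.s)⁻¹ = d.f y * (d.s * v * d.s⁻¹) * (d.f y)⁻¹ by group]
    exact hbase y _ (hs v hv)

theorem WData.card_base : Nat.card d.f.range = 64 := by
  rw [Nat.card_congr (MonoidHom.ofInjective d.finj).toEquiv.symm]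
  simp [Nat.card_eq_fintype_card, DihedralGroup.card]

theorem WData.card_vSub (b : Bool) : Nat.card (d.vSub b) = 16 := by
  rw [WData.vSub, Nat.card_congr (Subgroup.equivMapOfInjective _ d.f d.finj).toEquiv.symm]
  show Nat.card {x : D8 × D8 // isV b x.1 ∧ isV b x.2} = 16
  rw [Nat.card_eq_fintype_card]
  cases b <;> decide

theorem WData.vSub_elementary (b : Bool) : Cfsg.IsElementaryAbelian 2 (d.vSub b) := by
  refine ⟨⟨⟨?_⟩⟩, ?_⟩
  · rintro ⟨_, x, hx, rfl⟩ ⟨_, y, hy, rfl⟩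
    apply Subtype.ext
    show d.f x * d.f y = d.f y * d.f x
    rw [← map_mul, ← map_mul, show x * y = y * x from
      Prod.ext (d8_v_group b _ _ hx.1 hy.1).2.2 (d8_v_group b _ _ hx.2 hy.2).2.2]
  · rintro _ ⟨x, hx, rfl⟩
    rw [← map_pow, sq, show x * x = 1 from
      Prod.ext (d8_v_group b _ _ hx.1 hx.1).2.1 (d8_v_group b _ _ hx.2 hx.2).2.1, map_one]

theorem exists_isV {ι : Type*} (g : ι → D8) (hsq : ∀ i, g i * g i = 1)
    (hc : ∀ i j, g i * g j = g j * g i) : ∃ b, ∀ i, isV b (g i) := by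
  by_cases h : ∀ i, isV true (g i)
  · exact ⟨true, h⟩
  push Not at h
  obtain ⟨i, hi⟩ := h
  refine ⟨false, fun j => ?_⟩
  rcases d8_invol (g i) (g j) (hsq i) (hsq j) (hc i j) with h' | h'
  · exact absurd h'.1 hi
  · exact h'.2

theorem WData.eq_vSub [Finite S] (V : Subgroup S) (hVP : V ≤ P)
    (hVn : ∀ g ∈ P, ∀ v ∈ V, g * v * g⁻¹ ∈ V) (hV : Cfsg.IsElementaryAbelian 2 V)
    (hc : Nat.card V = 16) : ∃ b, V = d.vSub b := by
  have hsq : ∀ v ∈ V, v * v = 1 := fun v hv => by rw [← sq]; exact hV.2 v hv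
  have hcomm : ∀ v ∈ V, ∀ w ∈ V, v * w = w * v := fun v hv w hw =>
    congrArg Subtype.val (hV.1.is_comm.comm ⟨v, hv⟩ ⟨w, hw⟩)
  have hsub : ∀ y : {y // d.f y ∈ V}, ∀ y' : {y // d.f y ∈ V},
      y.1 * y.1 = 1 ∧ y.1 * y'.1 = y'.1 * y.1 := fun y y' =>
    ⟨d.finj (by rw [map_mul, map_one]; exact hsq _ y.2),
      d.finj (by rw [map_mul, map_mul]; exact hcomm _ y.2 _ y'.2)⟩
  obtain ⟨b₁, hb₁⟩ := exists_isV (fun y : {y // d.f y ∈ V} => y.1.1)
    (fun y => congrArg Prod.fst (hsub y y).1) (fun y y' => congrArg Prod.fst (hsub y y').2)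
  obtain ⟨b₂, hb₂⟩ := exists_isV (fun y : {y // d.f y ∈ V} => y.1.2)
    (fun y => congrArg Prod.snd (hsub y y).1) (fun y y' => congrArg Prod.snd (hsub y y').2)
  have hbase : ∀ v ∈ V, ∃ y, v = d.f y := by
    intro v hv
    obtain ⟨y₀, h | h⟩ := d.cover v (hVP hv)
    · exact ⟨y₀, h⟩
    exfalso
    subst h
    -- `y ↦ y.1` is injective on the base part of `V`
    have hinj : ∀ y y' : {y // d.f y ∈ V}, y.1.1 = y'.1.1 → y = y' := by
      have key : ∀ y : {y // d.f y ∈ V}, y.1.2 = y₀.1⁻¹ * y.1.1 * y₀.1 := by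
        rintro ⟨⟨a, c⟩, hy⟩
        have h1 := hcomm _ hy _ hv
        rw [← mul_assoc (d.f (a, c)), mul_assoc (d.f y₀) d.s, d.sf, ← mul_assoc (d.f y₀), ← map_mul,
          ← map_mul] at h1
        have h2 : a * y₀.1 = y₀.1 * c := congrArg Prod.fst (d.finj (mul_right_cancel h1))
        show c = y₀.1⁻¹ * a * y₀.1
        rw [mul_assoc, h2, inv_mul_cancel_left]
      intro y y' h
      exact Subtype.ext (Prod.ext h (by rw [key, key, h]))
    have h4 : Nat.card {y // d.f y ∈ V} ≤ 4 := by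
      refine (Nat.card_le_card_of_injective (fun y => (⟨y.1.1, hb₁ y⟩ : {g : D8 // isV b₁ g}))
        fun y y' h => hinj y y' (congrArg Subtype.val h)).trans (le_of_eq ?_)
      rw [Nat.card_eq_fintype_card]
      cases b₁ <;> decide
    have hle : Nat.card V ≤ Nat.card ({y // d.f y ∈ V} × Bool) := by
      let g : {y // d.f y ∈ V} × Bool → V := fun x =>
        bif x.2 then ⟨d.f x.1.1 * (d.f y₀ * d.s), mul_mem x.1.2 hv⟩ else ⟨d.f x.1.1, x.1.2⟩
      refine Nat.card_le_card_of_surjective g ?_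
      rintro ⟨w, hw⟩
      obtain ⟨y, h | h⟩ := d.cover w (hVP hw)
      · subst h; exact ⟨(⟨y, hw⟩, false), rfl⟩
      · subst h
        have h' : d.f (y * y₀⁻¹) ∈ V := by
          have := mul_mem hw (inv_mem hv)
          rw [show d.f y * d.s * (d.f y₀ * d.s)⁻¹ = d.f (y * y₀⁻¹) by
            rw [map_mul, map_inv]; group] at this
          exact this
        refine ⟨(⟨_, h'⟩, true), Subtype.ext ?_⟩
        show d.f (y * y₀⁻¹) * (d.f y₀ * d.s) = d.f y * d.s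
        rw [← mul_assoc, ← map_mul, inv_mul_cancel_right]
    rw [Nat.card_prod, Nat.card_eq_fintype_card (α := Bool), Fintype.card_bool, hc] at hle
    omega
  -- the coordinates fill out `V_{b₁} × V_{b₂}`
  let ι : V → {p : D8 × D8 // isV b₁ p.1 ∧ isV b₂ p.2} := fun v =>
    ⟨(hbase v v.2).choose,
      hb₁ ⟨_, Eq.mp (congrArg (fun a => a ∈ V) (hbase v v.2).choose_spec) v.2⟩,
      hb₂ ⟨_, Eq.mp (congrArg (fun a => a ∈ V) (hbase v v.2).choose_spec) v.2⟩⟩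
  have hι : Function.Bijective ι := by
    have hinj : Function.Injective ι := fun v w h => Subtype.ext (by
      rw [(hbase v v.2).choose_spec, (hbase w w.2).choose_spec]
      exact congrArg d.f (congrArg Subtype.val h))
    refine hinj.bijective_of_nat_card_le ?_
    rw [hc, Nat.card_eq_fintype_card]
    cases b₁ <;> cases b₂ <;> decide
  have hfull : ∀ p : D8 × D8, isV b₁ p.1 → isV b₂ p.2 → d.f p ∈ V := by
    intro p h1 h2
    obtain ⟨v, hv⟩ := hι.2 ⟨p, h1, h2⟩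
    have : (hbase v v.2).choose = p := congrArg Subtype.val hv
    rw [← this, ← (hbase v v.2).choose_spec]
    exact v.2
  have hbb : b₁ = b₂ := by
    have hw : isV b₁ (if b₁ then sr 0 else sr 1) := by cases b₁ <;> decide
    have h1 : isV b₂ (1 : D8) := by cases b₂ <;> decide
    have hmem := hfull (if b₁ then sr 0 else sr 1, 1) hw h1
    have hsw := hVn d.s d.smem _ hmem
    rw [d.sconj] at hsw
    have : isV b₂ (if b₁ then sr 0 else sr 1) := hb₂ ⟨(1, if b₁ then sr 0 else sr 1), hsw⟩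
    revert this
    clear hmem hsw hw h1 hfull hι ι hbase hb₁ hb₂
    cases b₁ <;> cases b₂ <;> decide
  subst hbb
  refine ⟨b₁, le_antisymm (fun v hv => ?_) (fun v hv => ?_)⟩
  · obtain ⟨y, rfl⟩ := hbase v hv
    exact d.mem_vSub.2 ⟨hb₁ ⟨y, hv⟩, hb₂ ⟨y, hv⟩⟩
  · obtain ⟨y, hy, rfl⟩ := hv
    exact hfull y hy.1 hy.2

theorem WData.vSub_ne : d.vSub true ≠ d.vSub false := by
  intro h
  have hm : d.f (sr 0, 1) ∈ d.vSub true := d.mem_vSub.2 ⟨by decide, by decide⟩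
  rw [h, d.mem_vSub] at hm
  exact absurd hm.1 (by decide)

variable [Finite S]

theorem WData.conj_vSub {n : S} (hn : n ∈ Subgroup.normalizer (P : Set S)) :
    ∃ c : Bool, ∀ b : Bool, (d.vSub b).map (MulAut.conj n).toMonoidHom = d.vSub (c ^^ b) := by
  have hP := Subgroup.mem_normalizer_iff.1 hn
  have key : ∀ b, ∃ b', (d.vSub b).map (MulAut.conj n).toMonoidHom = d.vSub b' := by
    intro b
    refine d.eq_vSub _ ?_ ?_ ⟨?_, ?_⟩ ?_
    · rintro _ ⟨x, hx, rfl⟩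
      exact (hP x).1 (d.vSub_le b hx)
    · rintro g hg _ ⟨x, hx, rfl⟩
      refine ⟨(n⁻¹ * g * n) * x * (n⁻¹ * g * n)⁻¹, d.vSub_normal b _ ?_ x hx, ?_⟩
      · rw [hP (n⁻¹ * g * n), show n * (n⁻¹ * g * n) * n⁻¹ = g by group]; exact hg
      · show n * ((n⁻¹ * g * n) * x * (n⁻¹ * g * n)⁻¹) * n⁻¹ = g * (n * x * n⁻¹) * g⁻¹
        group
    · refine ⟨⟨?_⟩⟩
      rintro ⟨_, x, hx, rfl⟩ ⟨_, y, hy, rfl⟩
      apply Subtype.ext
      show n * x * n⁻¹ * (n * y * n⁻¹) = n * y * n⁻¹ * (n * x * n⁻¹)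
      have hxy : x * y = y * x :=
        congrArg Subtype.val ((d.vSub_elementary b).1.is_comm.comm ⟨x, hx⟩ ⟨y, hy⟩)
      rw [conj_mul, conj_mul, hxy]
    · rintro _ ⟨x, hx, rfl⟩
      rw [← map_pow, (d.vSub_elementary b).2 x hx, map_one]
    · rw [Nat.card_congr (Subgroup.equivMapOfInjective _ _ (MulAut.conj n).injective).toEquiv.symm,
        d.card_vSub]
  obtain ⟨bt, ht⟩ := key true
  obtain ⟨bf, hf⟩ := key false
  have hne : bt ≠ bf := fun h => d.vSub_ne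
    (Subgroup.map_injective (MulAut.conj n).injective (ht.trans (h ▸ hf.symm)))
  refine ⟨!bt, fun b => ?_⟩
  cases b <;> cases bt <;> cases bf <;> first | exact hf | exact ht | exact absurd rfl hne

theorem WData.range_conj {n : S} (hn : n ∈ Subgroup.normalizer (P : Set S)) (y : D8 × D8) :
    ∃ y', n * d.f y * n⁻¹ = d.f y' := by
  obtain ⟨a₁, b₁, ha₁, hb₁, h₁⟩ := d8_split y.1
  obtain ⟨a₂, b₂, ha₂, hb₂, h₂⟩ := d8_split y.2
  obtain ⟨c, hc⟩ := d.conj_vSub hn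
  have hA : n * d.f (a₁, a₂) * n⁻¹ ∈ d.vSub (c ^^ true) :=
    hc true ▸ ⟨_, d.mem_vSub.2 ⟨ha₁, ha₂⟩, rfl⟩
  have hB : n * d.f (b₁, b₂) * n⁻¹ ∈ d.vSub (c ^^ false) :=
    hc false ▸ ⟨_, d.mem_vSub.2 ⟨hb₁, hb₂⟩, rfl⟩
  obtain ⟨x, -, hx⟩ := hA
  obtain ⟨x', -, hx'⟩ := hB
  refine ⟨x * x', ?_⟩
  rw [map_mul, hx, hx', conj_mul, ← map_mul]
  congr 3
  exact Prod.ext h₁ h₂

theorem WData.exists_swap_conj {n : S} (hn : n ∈ Subgroup.normalizer (P : Set S)) :
    ∃ u : D8, n * d.s * n⁻¹ = d.f (u, 1) * d.s * (d.f (u, 1))⁻¹ := by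
  have hP := Subgroup.mem_normalizer_iff.1 hn
  obtain ⟨w, h | h⟩ := d.cover _ ((hP d.s).1 d.smem)
  · obtain ⟨y, hy⟩ := d.range_conj (inv_mem hn) w
    exact absurd (by rw [← hy, ← h]; group) (d.snot y)
  · refine ⟨w.1, ?_⟩
    have h2 : w.2 = w.1⁻¹ := by
      have h1 : n * d.s * n⁻¹ * (n * d.s * n⁻¹) = 1 := by
        rw [conj_mul, d.s2, mul_one, mul_inv_cancel]
      rw [h, mul_assoc, ← mul_assoc d.s, d.sf, mul_assoc _ d.s, d.s2, mul_one, ← map_mul,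
        ← map_one d.f] at h1
      exact eq_inv_of_mul_eq_one_right (congrArg Prod.fst (d.finj h1))
    rw [h, ← map_inv, mul_assoc (d.f (w.1, 1)), d.sf, ← mul_assoc, ← map_mul]
    congr 2
    exact Prod.ext (by simp) (by simp [h2])

end CfsgLib.RankFour
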