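import Mathlib

/-!
Coordinates on the Sylow 2-subgroups of the symmetric group of degree eight: `D₈ ≀ C₂`.
-/

set_option autoImplicit false

namespace CfsgLib.RankFour

/-- The dihedral group of order eight. -/
abbrev D8 : Type := DihedralGroup 4

/-- The base group `D₈ × D₈` together with the swapping involution. -/
structure WData {S : Type*} [Group S] (P : Subgroup S) where
  /-- the base -/
  f : D8 × D8 →* S
  /-- the swap -/
  s : S
  finj : Function.Injective f
  s2 : s * s = 1
  sconj : ∀ u v : D8, s * f (u, v) * s⁻¹ = f (v, u)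
  smem : s ∈ P
  fmem : ∀ x, f x ∈ P
  snot : ∀ x, f x ≠ s
  cover : ∀ x ∈ P, ∃ y, x = f y ∨ x = f y * s

/-- The action of `D₈` on the corners of the square. -/
def squareFun : D8 → Equiv.Perm (ZMod 4)
  | DihedralGroup.r i => Equiv.addLeft i
  | DihedralGroup.sr i => (Equiv.addLeft i).trans (Equiv.neg (ZMod 4))

/-- The square action as a homomorphism. -/
def squareHom : D8 →* Equiv.Perm (ZMod 4) where
  toFun := squareFun
  map_one' := by decide
  map_mul' := by decide

theorem squareHom_injective : Function.Injective squareHom :=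
  (injective_iff_map_eq_one squareHom).2 (by decide)

/-- A numbering of the eight points. -/
noncomputable def eightEquiv : ZMod 4 ⊕ ZMod 4 ≃ Fin 8 :=
  Fintype.equivFinOfCardEq (by simp)

/-- The base of the wreath product inside the symmetric group. -/
noncomputable def baseHom : D8 × D8 →* Equiv.Perm (Fin 8) :=
  (eightEquiv.permCongrHom : Equiv.Perm (ZMod 4 ⊕ ZMod 4) →* Equiv.Perm (Fin 8)).comp
    ((Equiv.Perm.sumCongrHom (ZMod 4) (ZMod 4)).comp (MonoidHom.prodMap squareHom squareHom))

/-- The swap inside the symmetric group. -/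
noncomputable def swapPerm : Equiv.Perm (Fin 8) :=
  eightEquiv.permCongrHom (Equiv.sumComm (ZMod 4) (ZMod 4))

theorem baseHom_injective : Function.Injective baseHom := by
  intro a b h
  have h' := Equiv.Perm.sumCongrHom_injective (eightEquiv.permCongrHom.injective h)
  exact Prod.ext (squareHom_injective (congrArg Prod.fst h'))
    (squareHom_injective (congrArg Prod.snd h'))

theorem swapPerm_sq : swapPerm * swapPerm = 1 := by
  rw [swapPerm, ← map_mul, ← map_one eightEquiv.permCongrHom]
  congr 1
  ext x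
  rcases x with x | x <;> rfl

theorem swap_conj (u v : D8) : swapPerm * baseHom (u, v) * swapPerm⁻¹ = baseHom (v, u) := by
  show eightEquiv.permCongrHom _ * eightEquiv.permCongrHom _ * (eightEquiv.permCongrHom _)⁻¹ =
    eightEquiv.permCongrHom _
  rw [← map_inv, ← map_mul, ← map_mul]
  congr 1
  ext x
  rcases x with x | x <;> rfl

theorem base_ne_swap (x : D8 × D8) : baseHom x ≠ swapPerm := by
  intro h
  have h' : Equiv.Perm.sumCongr (squareHom x.1) (squareHom x.2) = Equiv.sumComm (ZMod 4) (ZMod 4) :=
    eightEquiv.permCongrHom.injective h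
  have := Equiv.congr_fun h' (Sum.inl 0)
  simp at this

/-- A standard Sylow 2-subgroup of the symmetric group of degree eight. -/
def wreathSub : Subgroup (Equiv.Perm (Fin 8)) where
  carrier := {g | ∃ y, g = baseHom y ∨ g = baseHom y * swapPerm}
  one_mem' := ⟨1, Or.inl (map_one _).symm⟩
  mul_mem' := by
    have hsw : ∀ y, swapPerm * baseHom y = baseHom y.swap * swapPerm := fun y => by
      rw [show y.swap = (y.2, y.1) from rfl, ← swap_conj y.1 y.2, inv_mul_cancel_right]
    rintro _ _ ⟨a, rfl | rfl⟩ ⟨b, rfl | rfl⟩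
    · exact ⟨a * b, Or.inl (map_mul _ _ _).symm⟩
    · exact ⟨a * b, Or.inr (by rw [map_mul, mul_assoc])⟩
    · exact ⟨a * b.swap, Or.inr (by rw [map_mul, mul_assoc, hsw, mul_assoc])⟩
    · exact ⟨a * b.swap, Or.inl (by
        rw [map_mul, mul_assoc, ← mul_assoc swapPerm, hsw, mul_assoc, swapPerm_sq, mul_one])⟩
  inv_mem' := by
    have hsw : ∀ y, swapPerm * baseHom y = baseHom y.swap * swapPerm := fun y => by
      rw [show y.swap = (y.2, y.1) from rfl, ← swap_conj y.1 y.2, inv_mul_cancel_right]
    rintro _ ⟨a, rfl | rfl⟩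
    · exact ⟨a⁻¹, Or.inl (map_inv _ _).symm⟩
    · exact ⟨a⁻¹.swap, Or.inr (by
        rw [mul_inv_rev, inv_eq_of_mul_eq_one_left swapPerm_sq, ← map_inv, hsw])⟩

theorem card_eq_of_sylow_eight (T : Sylow 2 (Equiv.Perm (Fin 8))) :
    Nat.card (T : Subgroup (Equiv.Perm (Fin 8))) = 128 := by
  have : Fact (Nat.Prime 2) := ⟨Nat.prime_two⟩
  obtain ⟨k, hk⟩ := IsPGroup.iff_card.1 T.isPGroup'
  have hi := T.not_dvd_index
  have hmul := Subgroup.card_mul_index (T : Subgroup (Equiv.Perm (Fin 8)))
  rw [Nat.card_perm, Nat.card_fin, hk] at hmul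
  have hk16 : k < 16 := by
    by_contra h
    push Not at h
    have := Nat.pow_le_pow_right (show 0 < 2 by norm_num) h
    have hle := Nat.le_of_dvd (by decide) (Dvd.intro _ hmul)
    have h8 : Nat.factorial 8 = 40320 := by decide
    omega
  have h8 : Nat.factorial 8 = 40320 := by decide
  rw [hk]
  interval_cases k <;> first | rfl | omega

theorem card_wreathSub : Nat.card wreathSub = 128 := by
  let g : (D8 × D8) × Bool → wreathSub := fun x => match x with
    | (y, false) => ⟨baseHom y, y, Or.inl rfl⟩
    | (y, true) => ⟨baseHom y * swapPerm, y, Or.inr rfl⟩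
  have hne : ∀ a b : D8 × D8, baseHom a ≠ baseHom b * swapPerm := fun a b h =>
    base_ne_swap (b⁻¹ * a) (by rw [map_mul, map_inv, h, inv_mul_cancel_left])
  have hg : Function.Bijective g := by
    constructor
    · rintro ⟨a, _ | _⟩ ⟨b, _ | _⟩ h <;> replace h := congrArg Subtype.val h
      · rw [baseHom_injective h]
      · exact absurd h (hne a b)
      · exact absurd h.symm (hne b a)
      · rw [baseHom_injective (mul_right_cancel h)]
    · rintro ⟨_, y, rfl | rfl⟩
      · exact ⟨(y, false), rfl⟩
      · exact ⟨(y, true), rfl⟩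
  rw [← Nat.card_eq_of_bijective g hg]
  simp [Nat.card_eq_fintype_card, DihedralGroup.card]

/-- A group isomorphic to a Sylow 2-subgroup of the symmetric group of degree eight has wreath
coordinates. -/
theorem nonempty_wData {S : Type*} [Group S] (P : Subgroup S)
    (T : Sylow 2 (Equiv.Perm (Fin 8))) (e : P ≃* (T : Subgroup (Equiv.Perm (Fin 8)))) :
    Nonempty (WData P) := by
  have : Fact (Nat.Prime 2) := ⟨Nat.prime_two⟩
  have hp : IsPGroup 2 wreathSub := IsPGroup.of_card (n := 7) (by rw [card_wreathSub]; norm_num)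
  obtain ⟨W, hW⟩ := hp.exists_le_sylow
  have hWeq : (W : Subgroup (Equiv.Perm (Fin 8))) = wreathSub :=
    (Subgroup.eq_of_le_of_card_ge hW (by rw [card_wreathSub, card_eq_of_sylow_eight])).symm
  let E : wreathSub ≃* P := ((MulEquiv.subgroupCongr hWeq.symm).trans (W.equiv T)).trans e.symm
  let b : D8 × D8 →* wreathSub := baseHom.codRestrict wreathSub fun y => ⟨y, Or.inl rfl⟩
  let σ : wreathSub := ⟨swapPerm, 1, Or.inr (by rw [map_one, one_mul])⟩
  refine ⟨{
    f := P.subtype.comp ((E : wreathSub →* P).comp b)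
    s := (E σ : S)
    finj := fun x y h => baseHom_injective (congrArg Subtype.val (E.injective (Subtype.ext h)))
    s2 := by
      rw [← Subgroup.coe_mul, ← map_mul, show σ * σ = 1 from Subtype.ext swapPerm_sq, map_one]
      rfl
    sconj := fun u v => by
      show (E σ : S) * (E (b (u, v)) : S) * ((E σ : P) : S)⁻¹ = (E (b (v, u)) : S)
      rw [← Subgroup.coe_inv, ← Subgroup.coe_mul, ← Subgroup.coe_mul, ← map_inv, ← map_mul, ← map_mul,
        show σ * b (u, v) * σ⁻¹ = b (v, u) from Subtype.ext (swap_conj u v)]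
    smem := (E σ).2
    fmem := fun x => (E (b x)).2
    snot := fun x h => base_ne_swap x (congrArg Subtype.val (E.injective (Subtype.ext h)))
    cover := ?_ }⟩
  intro x hx
  obtain ⟨⟨g, y, hy⟩, hg⟩ := E.surjective ⟨x, hx⟩
  refine ⟨y, hy.imp (fun h => ?_) (fun h => ?_)⟩
  · subst h
    exact (congrArg Subtype.val hg).symm
  · subst h
    show x = (E (b y) : S) * (E σ : S)
    rw [← Subgroup.coe_mul, ← map_mul]
    exact (congrArg Subtype.val hg).symm

end CfsgLib.RankFour
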